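import Groth.Agent.Sga3B.AlgBc2

/-!
# fpqc descent helpers

* `isIso_of_fpqc_cover` : being an isomorphism is fpqc local on the base (in the sense of `Red.IsTorus`).
* `isIso_of_open_cover` : Zariski local version.
* `exists_cover_split₂` : two tori are simultaneously split over an fpqc cover.
-/

set_option autoImplicit false
open CategoryTheory MonoidalCategory CartesianMonoidalCategory MonObj GrpObj AlgebraicGeometry Limits
universe u

namespace Groth.Agent.Sga3.H798.FpqcIso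

open Groth.Agent.Sga3B Groth.Agent.Sga3B.RedIso Groth.Agent.Sga3B.BcNat Groth.Agent.Sga3B.TorusBc

variable {S S' : Scheme.{u}}

lemma isPullback_map_left (x : S' ⟶ S) {Z Y : Over S} (i : Z ⟶ Y) :
    IsPullback (pullback.fst Z.hom x) ((Over.pullback x).map i).left i.left
      (pullback.fst Y.hom x) := by
  have hw : i.left ≫ Y.hom = Z.hom := Over.w i
  have h2 : IsPullback (pullback.fst Z.hom x) (pullback.snd Z.hom x) (i.left ≫ Y.hom) x := by
    rw [hw]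
    exact IsPullback.of_hasPullback Z.hom x
  have h1 : pullback.fst Z.hom x ≫ i.left =
      ((Over.pullback x).map i).left ≫ pullback.fst Y.hom x :=
    (pullback.lift_fst _ _ _).symm
  have h3 : ((Over.pullback x).map i).left ≫ pullback.snd Y.hom x = pullback.snd Z.hom x :=
    pullback.lift_snd _ _ _
  refine IsPullback.of_bot (h₂₁ := pullback.fst Y.hom x) (v₂₁ := pullback.snd Y.hom x)
    (v₂₂ := Y.hom) (h₃₁ := x) ?_ h1 (IsPullback.of_hasPullback Y.hom x)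
  rw [h3]
  exact h2

/-- A morphism property (Zariski local on the target, stable under base change, descending along fpqc
morphisms) of an `S`-morphism is fpqc local on `S`. -/
theorem prop_of_fpqc_cover (P : MorphismProperty Scheme.{u}) [IsZariskiLocalAtTarget P]
    [P.IsStableUnderBaseChange] [P.DescendsAlong (@Surjective ⊓ @Flat ⊓ @QuasiCompact)]
    (f : S' ⟶ S) [Flat f]
    (hc : ∀ V : S.Opens, IsAffineOpen V → ∃ W : S'.Opens, IsCompact (W : Set S') ∧ f.base '' (W : Set S') = (V : Set S))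
    {X Y : Over S} (φ : X ⟶ Y)
    (h : ∀ s' : S', ∃ U : S'.Opens, s' ∈ U ∧ P ((Over.pullback (U.ι ≫ f)).map φ).left) : P φ.left := by
  refine FpqcLoc.of_fpqc_cover (P := P) φ.left (pullback.fst Y.hom f) (qc_cover_bc f Y.hom hc) fun y => ?_
  obtain ⟨U, hU, hP⟩ := h (pullback.snd Y.hom f y)
  refine ⟨(pullback.snd Y.hom f) ⁻¹ᵁ U, hU, ?_⟩
  let V := (pullback.snd Y.hom f) ⁻¹ᵁ U
  have e : (V.ι ≫ pullback.fst Y.hom f) ≫ Y.hom = ((pullback.snd Y.hom f) ∣_ U) ≫ U.ι ≫ f := by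
    rw [Category.assoc, pullback.condition, morphismRestrict_ι_assoc]
  let q : (V : Scheme.{u}) ⟶ pullback Y.hom (U.ι ≫ f) := pullback.lift _ _ e
  have hq : V.ι ≫ pullback.fst Y.hom f = q ≫ pullback.fst Y.hom (U.ι ≫ f) := (pullback.lift_fst _ _ _).symm
  have h1 : P (pullback.snd φ.left (pullback.fst Y.hom (U.ι ≫ f))) := by
    have h2 := isPullback_map_left (U.ι ≫ f) φ
    exact (P.arrow_mk_iso_iff (Arrow.isoMk h2.isoPullback (Iso.refl _)
      ((h2.isoPullback_hom_snd).trans (Category.comp_id _).symm))).mp hP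
  have h3 := IsPullback.of_hasPullback φ.left (V.ι ≫ pullback.fst Y.hom f)
  exact FpqcLoc.of_isPullback' (P := P) (q := q) (by rw [← hq]; exact h3) h1

theorem isIso_of_fpqc_cover (f : S' ⟶ S) [Flat f]
    (hc : ∀ V : S.Opens, IsAffineOpen V → ∃ W : S'.Opens, IsCompact (W : Set S') ∧ f.base '' (W : Set S') = (V : Set S))
    {X Y : Over S} (φ : X ⟶ Y)
    (h : ∀ s' : S', ∃ U : S'.Opens, s' ∈ U ∧ IsIso ((Over.pullback (U.ι ≫ f)).map φ)) : IsIso φ := by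
  have h1 : MorphismProperty.isomorphisms Scheme.{u} φ.left := by
    refine prop_of_fpqc_cover (MorphismProperty.isomorphisms Scheme.{u}) f hc φ fun s' => ?_
    obtain ⟨U, hU, hi⟩ := h s'
    exact ⟨U, hU, (inferInstance : IsIso ((Over.forget _).map ((Over.pullback (U.ι ≫ f)).map φ)))⟩
  have h2 : IsIso ((Over.forget _).map φ) := h1
  exact isIso_of_reflects_iso φ (Over.forget _)

theorem isIso_of_open_cover {X Y : Over S} (φ : X ⟶ Y)
    (h : ∀ s : S, ∃ U : S.Opens, s ∈ U ∧ IsIso ((Over.pullback U.ι).map φ)) : IsIso φ := by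
  refine isIso_of_fpqc_cover (𝟙 S) ?_ φ fun s => ?_
  · intro V hV
    refine ⟨V, hV.isCompact, ?_⟩
    ext x
    simp
  · obtain ⟨U, hU, hi⟩ := h s
    refine ⟨U, hU, ?_⟩
    rw [Category.comp_id]
    exact hi

/-- Two tori are simultaneously split, Zariski locally on an fpqc cover. -/
theorem exists_cover_split₂ {T R : Over S} [GrpObj T] [GrpObj R] (hT : Red.IsTorus T) (hR : Red.IsTorus R) :
    ∃ (S' : Scheme.{u}) (f : S' ⟶ S), Flat f ∧ Surjective f ∧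
      (∀ V : S.Opens, IsAffineOpen V → ∃ W : S'.Opens, IsCompact (W : Set S') ∧ f.base '' (W : Set S') = (V : Set S)) ∧
      ∀ s' : S', ∃ U : S'.Opens, s' ∈ U ∧ ∃ m n : ℕ, Red.IsSplitTorusWith (Fin m → ℤ) (Red.bc (U.ι ≫ f) T) ∧
        Red.IsSplitTorusWith (Fin n → ℤ) (Red.bc (U.ι ≫ f) R) := by
  obtain ⟨S₁, f₁, hf₁, hs₁, hc₁, h₁⟩ := hT
  obtain ⟨S₂, f₂, hf₂, hs₂, hc₂, h₂⟩ := isTorus_bc f₁ hR
  refine ⟨S₂, f₂ ≫ f₁, inferInstance, inferInstance, fun V hV => ?_, fun x => ?_⟩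
  · obtain ⟨W, hW, hWV⟩ := hc₁ V hV
    obtain ⟨W', hW', hWW'⟩ := AlgBc.qc_cover_of_isCompact f₂ hc₂ W hW
    refine ⟨W', hW', ?_⟩
    have e : (f₂ ≫ f₁).base = f₁.base ∘ f₂.base := by ext x; simp
    rw [e, Set.image_comp, hWW', hWV]
  · obtain ⟨U₁, hU₁, m, hm⟩ := h₁ (f₂ x)
    obtain ⟨U₂, hU₂, n, hn⟩ := h₂ x
    refine ⟨U₂ ⊓ f₂ ⁻¹ᵁ U₁, ⟨hU₂, hU₁⟩, m, n, ?_, ?_⟩
    · let U := U₂ ⊓ f₂ ⁻¹ᵁ U₁
      let k : (U : Scheme.{u}) ⟶ U₁ := IsOpenImmersion.lift U₁.ι (U.ι ≫ f₂) (by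
        rintro _ ⟨y, rfl⟩
        simp only [Scheme.Opens.range_ι, Scheme.Hom.comp_apply]
        exact y.2.2)
      have hk : k ≫ U₁.ι = U.ι ≫ f₂ := IsOpenImmersion.lift_fac _ _ _
      have e1 : k ≫ U₁.ι ≫ f₁ = U.ι ≫ f₂ ≫ f₁ := by
        rw [← Category.assoc, hk, Category.assoc]
      have e2 := TorusAlgClosed.isSplitTorusWith_bc k hm
      exact isSplitTorusWith_of_iso ((BcIso.bcCompIso k (U₁.ι ≫ f₁) T).symm ≪≫ BcIso.bcCongrIso e1 T) e2
    · let U := U₂ ⊓ f₂ ⁻¹ᵁ U₁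
      let k : (U : Scheme.{u}) ⟶ U₂ := S₂.homOfLE inf_le_left
      have hk : k ≫ U₂.ι = U.ι := Scheme.homOfLE_ι _ _
      have e1 : (k ≫ U₂.ι ≫ f₂) ≫ f₁ = U.ι ≫ f₂ ≫ f₁ := by
        rw [← Category.assoc k, hk, Category.assoc]
      have e2 := TorusAlgClosed.isSplitTorusWith_bc k hn
      refine isSplitTorusWith_of_iso ?_ e2
      exact (BcIso.bcCompIso k (U₂.ι ≫ f₂) (Red.bc f₁ R)).symm ≪≫ (BcIso.bcCompIso (k ≫ U₂.ι ≫ f₂) f₁ R).symm ≪≫
        BcIso.bcCongrIso e1 R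

end Groth.Agent.Sga3.H798.FpqcIso
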