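import Groth.Agent.Sga3.H798.AgreeOpen
import Groth.Agent.Sga3.H798.FpqcIso
import Groth.Agent.Sga3B.MaxTorusCrit

/-!
# Containment of commuting subtori can be checked on geometric fibres

`FibLe i j` : on the standard geometric fibres `R ≤ T` as subgroups of `G` (`i : T ⟶ G`, `j : R ⟶ G`).

* `exists_factor` : if `G` is separated and locally of finite type over `S`, `T`, `R` are tori, `i` is a
  monomorphism, the points of `T` and `R` commute, and `R ≤ T` on the geometric fibres, then `j` factors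
  through `i`.
-/

set_option autoImplicit false
universe u
open CategoryTheory MonoidalCategory CartesianMonoidalCategory MonObj GrpObj AlgebraicGeometry Limits

namespace Groth.Agent.Sga3.H798.SubTorus

open Groth.Agent.Sga3B Groth.Agent.Sga3B.InfConj Groth.Agent.Sga3B.InfConjFam Groth.Agent.Sga3B.DSPts
  Groth.Agent.Sga3B.DSRigid Groth.Agent.Sga3B.CentRep Groth.Agent.Sga3B.CentLift Groth.Agent.Sga3B.RedIso

variable {S S' : Scheme.{u}}

/-- On the standard geometric fibres, `R` is contained in `T`. -/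
def FibLe {T R G : Over S} (i : T ⟶ G) (j : R ⟶ G) : Prop :=
  ∀ (s : S) (X : Over S) (_ : X ⟶ Over.mk (Red.geomPt s)) (r : X ⟶ R), ∃ t : X ⟶ T, t ≫ i = r ≫ j

/-- A geometric point over `s'` maps to a geometric point over `f s'`. -/
theorem exists_geomPt (f : S' ⟶ S) (s' : S') :
    ∃ θ : Spec (CommRingCat.of (AlgebraicClosure (S'.residueField s'))) ⟶
        Spec (CommRingCat.of (AlgebraicClosure (S.residueField (f s')))),
      θ ≫ Red.geomPt (f s') = Red.geomPt s' ≫ f := by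
  let k := S.residueField (f s')
  let k' := S'.residueField s'
  let φ : k →+* AlgebraicClosure k' := (algebraMap k' (AlgebraicClosure k')).comp (f.residueFieldMap s').hom
  let a1 : Algebra k (AlgebraicClosure k') := φ.toAlgebra
  let e : AlgebraicClosure k →ₐ[k] AlgebraicClosure k' := IsAlgClosed.lift
  refine ⟨Spec.map (CommRingCat.ofHom e.toRingHom), ?_⟩
  rw [Red.geomPt, Red.geomPt, Category.assoc, ← Scheme.Hom.SpecMap_residueFieldMap_fromSpecResidueField,
      ← Category.assoc, ← Category.assoc, ← Spec.map_comp, ← Spec.map_comp]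
  congr 2
  ext a
  exact e.commutes a

lemma mem_range_geomPt (s : S) : s ∈ Set.range (Red.geomPt s) := by
  obtain ⟨y⟩ : Nonempty (Spec (CommRingCat.of (AlgebraicClosure (S.residueField s)))) := inferInstance
  refine ⟨y, ?_⟩
  have h : Red.geomPt s y ∈ Set.range (S.fromSpecResidueField s) := ⟨_, rfl⟩
  rw [Scheme.range_fromSpecResidueField] at h
  exact h

theorem fibLe_bc (f : S' ⟶ S) {T R G : Over S} {i : T ⟶ G} {j : R ⟶ G} (h : FibLe i j) :
    FibLe ((Over.pullback f).map i) ((Over.pullback f).map j) := by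
  intro s' X k r
  obtain ⟨θ, hθ⟩ := exists_geomPt f s'
  have hk : k.left ≫ Red.geomPt s' = X.hom := Over.w k
  have hk' : (k.left ≫ θ) ≫ Red.geomPt (f s') = X.hom ≫ f := by
    rw [Category.assoc, hθ, ← Category.assoc, hk]
  obtain ⟨t, ht⟩ := h (f s') ((Over.map f).obj X) (Over.homMk (k.left ≫ θ) hk') ((BcPts.bcEquiv f X R).symm r)
  refine ⟨BcPts.bcEquiv f X T t, ?_⟩
  rw [← BcPts.bcEquiv_comp, ht, BcPts.bcEquiv_comp, Equiv.apply_symm_apply]

lemma ev_map {f : S' ⟶ S} {X Y : Over S} (g : X ⟶ Y) {T : Over S} (x : T ⟶ X)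
    (t : T ⟶ Over.mk f) : BcPts.ev ((Over.pullback f).map g) x t = x ≫ g := by
  simp only [BcPts.ev]
  rw [← BcPts.bcEquiv_comp, Equiv.symm_apply_apply, Category.assoc, Iso.inv_hom_id_assoc]

theorem fibLe_of_geomFibre {T R G : Over S} {i : T ⟶ G} {j : R ⟶ G}
    (h : ∀ s : S, ∃ f : Red.geomFibre s R ⟶ Red.geomFibre s T,
      f ≫ (Over.pullback (Red.geomPt s)).map i = (Over.pullback (Red.geomPt s)).map j) : FibLe i j := by
  intro s X k r
  obtain ⟨f, hf⟩ := h s
  refine ⟨BcPts.ev f r k, ?_⟩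
  have h1 := BcPts.ev_comp f ((Over.pullback (Red.geomPt s)).map i) r k
  rw [ev_map, hf, ev_map] at h1
  exact h1

lemma isMonHom_DSmap {M N : Type} [AddCommGroup M] [AddCommGroup N] (φ : M →+ N) :
    IsMonHom (Red.DSmap S φ) := by
  refine InfConjFam.isMonHom_of_mul _ fun T d d' => ?_
  apply (dsEquiv T M).symm.injective
  change dsChar _ = dsChar _
  rw [dsChar_DSmap, dsChar_mul, dsChar_mul, dsChar_DSmap, dsChar_DSmap]
  rfl

/-- The case of split tori. -/
theorem split_case {T R G : Over S} [GrpObj T] [GrpObj R] [GrpObj G] (i : T ⟶ G) [IsMonHom i] [Mono i]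
    (j : R ⟶ G) [IsMonHom j] [IsSeparated G.hom] [LocallyOfFiniteType G.hom] {m n : ℕ}
    (hT : Red.IsSplitTorusWith (Fin m → ℤ) T) (hR : Red.IsSplitTorusWith (Fin n → ℤ) R)
    (hcomm : ∀ (X : Over S) (t : X ⟶ T) (r : X ⟶ R), (t ≫ i) * (r ≫ j) = (r ≫ j) * (t ≫ i))
    (h : FibLe i j) (s : S) : ∃ U : S.Opens, s ∈ U ∧
      ∀ (X : Over S) (_ : Set.range X.hom ⊆ U) (r : X ⟶ R), ∃ t : X ⟶ T, t ≫ i = r ≫ j := by
  obtain ⟨eT⟩ := hT
  obtain ⟨eR⟩ := hR
  let x := Red.geomPt s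
  let b : Red.DS S (Fin n → ℤ) ⟶ G := (und eR).inv ≫ j
  have hi' : IsMonHom ((und eT).inv ≫ i) := inferInstance
  have hb : IsMonHom b := inferInstanceAs (IsMonHom ((und eR).inv ≫ j))
  obtain ⟨t₀, ht₀⟩ := h s (Red.DS S (Fin n → ℤ) ⊗ Over.mk x) (snd _ _) (fst _ _ ≫ (und eR).inv)
  have ht₀' : t₀ ≫ i = fst _ _ ≫ b := by rw [ht₀, Category.assoc]
  let c : Red.DS S (Fin n → ℤ) ⊗ Over.mk x ⟶ Red.DS S (Fin m → ℤ) := t₀ ≫ (und eT).hom
  have hci : c ≫ (und eT).inv ≫ i = fst _ _ ≫ b := by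
    simp only [c, Category.assoc, Iso.hom_inv_id_assoc]
    exact ht₀'
  have hc : AutFam.IsHomFamily (Red.DS S (Fin n → ℤ)) (Red.DS S (Fin m → ℤ)) c := by
    intro Y g₁ g₂ t
    have key : ∀ g : Y ⟶ Red.DS S (Fin n → ℤ), (lift g t ≫ c) ≫ ((und eT).inv ≫ i) = g ≫ b := by
      intro g
      rw [Category.assoc, hci, lift_fst_assoc]
    rw [← cancel_mono ((und eT).inv ≫ i), MonObj.mul_comp _ _ ((und eT).inv ≫ i), key, key, key,
      MonObj.mul_comp]
  obtain ⟨φ, hφ⟩ := exists_DSmap_family x c hc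
  have hφ' : c = fst _ _ ≫ Red.DSmap S φ := by
    have := hφ _ (fst _ _) (snd _ _)
    rw [← this]
    simp
  have hDS := isMonHom_DSmap (S := S) φ
  let a : Red.DS S (Fin n → ℤ) ⟶ G := Red.DSmap S φ ≫ (und eT).inv ≫ i
  have ha : IsMonHom a := inferInstanceAs (IsMonHom (Red.DSmap S φ ≫ (und eT).inv ≫ i))
  obtain ⟨U, -, hU⟩ := AgreeOpen.exists_clopen a b (MaxTorusCrit.isTorus_DS S n) (by
    intro X d d'
    have := hcomm X (d ≫ Red.DSmap S φ ≫ (und eT).inv) (d' ≫ (und eR).inv)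
    simpa only [Category.assoc, a, b] using this)
  refine ⟨U, ?_, fun X hX r => ?_⟩
  · have h1 := (hU (Over.mk x)).mp (by
      simp only [a]
      rw [← Category.assoc, ← hφ', hci])
    exact h1 (mem_range_geomPt s)
  · have h1 := (hU X).mpr hX
    have h2 := congrArg (fun k => lift (r ≫ (und eR).hom) (𝟙 X) ≫ k) h1
    simp only [lift_fst_assoc, a, b, Category.assoc, Iso.hom_inv_id_assoc] at h2
    exact ⟨r ≫ (und eR).hom ≫ Red.DSmap S φ ≫ (und eT).inv, by simpa only [Category.assoc] using h2⟩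

/-- If every point of `R` over `S'` comes from `P` then the base change of `P ⟶ R` is an isomorphism. -/
lemma isIso_bc_of_factor (f : S' ⟶ S) {P R : Over S} (φ : P ⟶ R) [Mono φ]
    (h : ∀ (X : Over S') (r : (Over.map f).obj X ⟶ R), ∃ p, p ≫ φ = r) : IsIso ((Over.pullback f).map φ) := by
  obtain ⟨p, hp⟩ := h (Red.bc f R) ((BcPts.bcEquiv f _ R).symm (𝟙 _))
  have h1 : BcPts.bcEquiv f _ P p ≫ (Over.pullback f).map φ = 𝟙 _ := by
    rw [← BcPts.bcEquiv_comp, hp, Equiv.apply_symm_apply]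
  refine ⟨BcPts.bcEquiv f _ P p, ?_, h1⟩
  rw [← cancel_mono ((Over.pullback f).map φ), Category.assoc, h1, Category.comp_id, Category.id_comp]

/-- Points commuting with a subgroup, after base change. -/
lemma comm_bc (f : S' ⟶ S) {G H Z : Over S} [GrpObj G] (i : H ⟶ G) (z : Z ⟶ G)
    (hz : ∀ (X : Over S) (t : X ⟶ Z) (h : X ⟶ H), (t ≫ z) * (h ≫ i) = (h ≫ i) * (t ≫ z))
    (X : Over S') (t : X ⟶ Red.bc f Z) (h : X ⟶ Red.bc f H) :
    (t ≫ (Over.pullback f).map z) * (h ≫ (Over.pullback f).map i) =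
      (h ≫ (Over.pullback f).map i) * (t ≫ (Over.pullback f).map z) := by
  apply (BcPts.bcMulEquiv f X G).symm.injective
  rw [map_mul, map_mul]
  change (BcPts.bcEquiv f X G).symm _ * (BcPts.bcEquiv f X G).symm _ =
    (BcPts.bcEquiv f X G).symm _ * (BcPts.bcEquiv f X G).symm _
  rw [BcPts.bcEquiv_symm_comp, BcPts.bcEquiv_symm_comp]
  exact hz _ _ _

/-- **Containment of commuting subtori can be checked on geometric fibres.** -/
theorem exists_factor {T R G : Over S} [GrpObj T] [GrpObj R] [GrpObj G] (i : T ⟶ G) [IsMonHom i] [Mono i]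
    (j : R ⟶ G) [IsMonHom j] [IsSeparated G.hom] [LocallyOfFiniteType G.hom]
    (hT : Red.IsTorus T) (hR : Red.IsTorus R)
    (hcomm : ∀ (X : Over S) (t : X ⟶ T) (r : X ⟶ R), (t ≫ i) * (r ≫ j) = (r ≫ j) * (t ≫ i))
    (h : FibLe i j) : ∃ f : R ⟶ T, f ≫ i = j := by
  have hm : Mono (pullback.snd i j) := inferInstance
  obtain ⟨S₁, f, hf, hs, hc, hsp⟩ := FpqcIso.exists_cover_split₂ hT hR
  have hiso : IsIso (pullback.snd i j) := by
    refine FpqcIso.isIso_of_fpqc_cover f hc _ fun s' => ?_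
    obtain ⟨U₀, hU₀, m, n, hm', hn'⟩ := hsp s'
    refine ⟨U₀, hU₀, ?_⟩
    let g := U₀.ι ≫ f
    have : IsSeparated (Red.bc g G).hom := inferInstanceAs (IsSeparated (pullback.snd _ _))
    have : LocallyOfFiniteType (Red.bc g G).hom := inferInstanceAs (LocallyOfFiniteType (pullback.snd _ _))
    refine FpqcIso.isIso_of_open_cover _ fun s₀ => ?_
    obtain ⟨U₁, hU₁, hfac⟩ := split_case ((Over.pullback g).map i) ((Over.pullback g).map j) hm' hn'
      (comm_bc g j i hcomm) (fibLe_bc g h) s₀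
    refine ⟨U₁, hU₁, ?_⟩
    refine isIso_bc_of_factor U₁.ι ((Over.pullback g).map (pullback.snd i j)) fun X r => ?_
    obtain ⟨t, ht⟩ := hfac ((Over.map U₁.ι).obj X) (by
      rintro _ ⟨y, rfl⟩
      simp only [Over.map_obj_hom, Scheme.Hom.comp_apply]
      exact (X.hom y).2) r
    have h1 : (BcPts.bcEquiv g _ T).symm t ≫ i = (BcPts.bcEquiv g _ R).symm r ≫ j := by
      rw [← BcPts.bcEquiv_symm_comp, ← BcPts.bcEquiv_symm_comp, ht]
    refine ⟨BcPts.bcEquiv g _ _ (pullback.lift _ _ h1), ?_⟩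
    rw [← BcPts.bcEquiv_comp, pullback.lift_snd, Equiv.apply_symm_apply]
  refine ⟨inv (pullback.snd i j) ≫ pullback.fst i j, ?_⟩
  rw [Category.assoc, pullback.condition, IsIso.inv_hom_id_assoc]

end Groth.Agent.Sga3.H798.SubTorus
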