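import Groth.Agent.Sga3.H798.CentSep
import Groth.Agent.Sga3.H798.SubTorus
import Groth.Agent.Sga3.H784.Commute
import Groth.Agent.Sga3B.AlgBc
import Groth.Agent.Sga3B.SplitBc264
import Groth.Agent.Sga3B.MaxTorNear900
import Groth.Prelude.Def_SGA3x

/-!
# Maximal tori and their centralizers, over any base

* `isMaximalTorus_geomFibre`: geometric fibres of a maximal torus are maximal tori;
* `exists_factor_of_comm`: a torus commuting with a maximal torus is contained in it (`G` separated, lft);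
* `exists_iso_of_comm`: two commuting maximal tori are equal;
* `isMaximalTorus_of_comp`: a torus of a subgroup which is maximal in the group is maximal in the subgroup;
* `isCartan_of_isCentralizerOf`.
-/

set_option autoImplicit false

universe u

open CategoryTheory MonoidalCategory CartesianMonoidalCategory MonObj GrpObj AlgebraicGeometry
open CategoryTheory.Limits

namespace Groth.Agent.Sga3.H798.MaxTorCent

open Sga3B

variable {S : Scheme.{u}}

/-- Geometric fibres of a maximal torus are maximal tori. -/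
theorem isMaximalTorus_geomFibre {T G : Over S} [GrpObj T] [GrpObj G] {i : T ⟶ G}
    (h : Red.IsMaximalTorus i) (s : S) :
    Red.IsMaximalTorus ((Over.pullback (Red.geomPt s)).map i) :=
  AlgBc.isMaximalTorus_bc (Red.geomPt s) h

/-- A torus of a subgroup which is maximal in the group is maximal in the subgroup. -/
theorem isMaximalTorus_of_comp {T C G : Over S} [GrpObj T] [GrpObj C] [GrpObj G] (i' : T ⟶ C)
    (c : C ⟶ G) [IsMonHom c] [Mono c] (h : Red.IsMaximalTorus (i' ≫ c)) : Red.IsMaximalTorus i' := by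
  obtain ⟨h1, h2, h3, h4⟩ := h
  have h5 : IsMonHom i' := by
    refine InfConjFam.isMonHom_of_mul _ fun T d d' => ?_
    have e1 := MonObj.mul_comp d d' (i' ≫ c)
    have e2 := MonObj.mul_comp (d ≫ i') (d' ≫ i') c
    rw [← cancel_mono c, Category.assoc, e1, e2, Category.assoc, Category.assoc]
  refine ⟨h5, mono_of_mono i' c, h3, fun s T' _ j _ _ f hT' hf => ?_⟩
  exact h4 s T' (j ≫ (Over.pullback (Red.geomPt s)).map c) f hT' (by
    rw [← Category.assoc, hf, ← Functor.map_comp])

/-- A torus commuting with a maximal torus lies in it on all geometric fibres. -/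
theorem fibLe_of_comm {T R G : Over S} [GrpObj T] [GrpObj R] [GrpObj G] (i : T ⟶ G)
    (hi : Red.IsMaximalTorus i) (j : R ⟶ G) [IsMonHom j] (hR : Red.IsTorus R)
    (hcomm : ∀ (X : Over S) (t : X ⟶ T) (r : X ⟶ R), (t ≫ i) * (r ≫ j) = (r ≫ j) * (t ≫ i)) :
    SubTorus.FibLe i j := by
  refine SubTorus.fibLe_of_geomFibre fun s => ?_
  exact H784.Commute.exists_factor_of_commute _ (isMaximalTorus_geomFibre hi s) _
    (TorusBc.isTorus_bc _ hR) fun t r =>
      (SubTorus.comm_bc _ _ _ (fun X t r => hcomm X t r) _ t r)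

/-- **A torus commuting with a maximal torus is contained in it.** -/
theorem exists_factor_of_comm {T R G : Over S} [GrpObj T] [GrpObj R] [GrpObj G] (i : T ⟶ G)
    (hi : Red.IsMaximalTorus i) (j : R ⟶ G) [IsMonHom j] [IsSeparated G.hom]
    [LocallyOfFiniteType G.hom] (hR : Red.IsTorus R)
    (hcomm : ∀ (X : Over S) (t : X ⟶ T) (r : X ⟶ R), (t ≫ i) * (r ≫ j) = (r ≫ j) * (t ≫ i)) :
    ∃ f : R ⟶ T, f ≫ i = j := by
  have h1 := hi.1
  have h2 := hi.2.1
  exact SubTorus.exists_factor i j hi.2.2.1 hR hcomm (fibLe_of_comm i hi j hR hcomm)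

/-- Two commuting maximal tori are equal. -/
theorem exists_iso_of_comm {T R G : Over S} [GrpObj T] [GrpObj R] [GrpObj G] (i : T ⟶ G)
    (hi : Red.IsMaximalTorus i) (j : R ⟶ G) (hj : Red.IsMaximalTorus j) [IsSeparated G.hom]
    [LocallyOfFiniteType G.hom]
    (hcomm : ∀ (X : Over S) (t : X ⟶ T) (r : X ⟶ R), (t ≫ i) * (r ≫ j) = (r ≫ j) * (t ≫ i)) :
    ∃ φ : R ≅ T, φ.hom ≫ i = j := by
  have h1 := hi.1
  have h2 := hi.2.1
  have h3 := hj.1
  have h4 := hj.2.1
  obtain ⟨f, hf⟩ := exists_factor_of_comm i hi j hj.2.2.1 hcomm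
  obtain ⟨g, hg⟩ := exists_factor_of_comm j hj i hi.2.2.1 fun X t r => (hcomm X r t).symm
  refine ⟨⟨f, g, ?_, ?_⟩, hf⟩
  · rw [← cancel_mono j, Category.assoc, hg, hf, Category.id_comp]
  · rw [← cancel_mono i, Category.assoc, hf, hg, Category.id_comp]

/-- A smooth centralizer of a maximal torus is a Cartan subgroup. -/
theorem isCartan_of_isCentralizerOf {T C G : Over S} [GrpObj T] [GrpObj C] [GrpObj G] (i : T ⟶ G)
    (hi : Red.IsMaximalTorus i) (c : C ⟶ G) (hc : Red.IsCentralizerOf i c) [Smooth C.hom] :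
    SGA3x.IsCartan c := by
  have h1 := hc.1
  have h2 := hc.2.1
  refine ⟨h1, h2, inferInstance, fun s => ⟨inferInstance, inferInstance, _, inferInstance, _,
    isMaximalTorus_geomFibre hi s, SplitBc264.isCentralizerOf_bc _ hc⟩⟩

/-- **The centralizer of a maximal torus.** -/
theorem main (G : Over S) [GrpObj G] [Smooth G.hom] [IsSeparated G.hom]
    (T : Over S) [GrpObj T] (i : T ⟶ G) (hT : Red.IsMaximalTorus i) :
    ∃ (C : Over S) (_ : GrpObj C) (c : C ⟶ G), Red.IsCentralizerOf i c ∧ IsClosedImmersion c.left ∧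
      SGA3x.IsCartan c ∧ ∃ i' : T ⟶ C, i' ≫ c = i ∧ Red.IsMaximalTorus i' ∧
        ∀ (T' : Over S) [GrpObj T'] (j : T' ⟶ C), Red.IsMaximalTorus j →
          ∃ φ : T' ≅ T, φ.hom ≫ i' = j := by
  have h1 := hT.1
  have h2 := hT.2.1
  obtain ⟨C, _, c, hc, hcl, hsm, -⟩ := CentSep.exists_smooth_centralizer i hT.2.2.1
  have h3 := hc.1
  have h4 := hc.2.1
  obtain ⟨i', hi'⟩ := (hc.2.2 T i).2 fun X x t => by
    rw [← MonObj.mul_comp, ← MonObj.mul_comp, MaxTorNear900.mul_comm_of_isTorus hT.2.2.1]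
  subst hi'
  have h5 := isMaximalTorus_of_comp i' c hT
  have h6 : IsSeparated C.hom := by
    rw [← Over.w c]
    infer_instance
  refine ⟨C, inferInstance, c, hc, hcl, isCartan_of_isCentralizerOf _ hT c hc, i', rfl, h5,
    fun T' _ j hj => exists_iso_of_comm i' h5 j hj fun X t r => ?_⟩
  have h7 := (hc.2.2 X (r ≫ j ≫ c)).1 ⟨r ≫ j, by rw [Category.assoc]⟩ X (𝟙 X) t
  rw [← cancel_mono c, MonObj.mul_comp, MonObj.mul_comp]
  rw [Category.id_comp] at h7
  simpa only [Category.assoc] using h7.symm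

end Groth.Agent.Sga3.H798.MaxTorCent
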