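import Groth.Agent.Sga3B.CentSmooth

/-!
# The centralizer of a homomorphism from a torus to a smooth separated group

No closedness (nor injectivity) of `q : Q ⟶ G` is required: only `G` separated.

* `exists_centralizer` : `Q` smooth and geometrically irreducible, `G` separated.
* `smooth_centralizer`, `exists_smooth_centralizer` : `Q` a torus, `G` smooth and separated.
-/

set_option autoImplicit false
universe u
open CategoryTheory MonoidalCategory CartesianMonoidalCategory MonObj GrpObj AlgebraicGeometry Limits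

namespace Groth.Agent.Sga3.H798.CentSep

open Groth.Agent.Sga3B Groth.Agent.Sga3B.InfConj Groth.Agent.Sga3B.InfConjFam Groth.Agent.Sga3B.DSPts
  Groth.Agent.Sga3B.DSRigid Groth.Agent.Sga3B.CentRep Groth.Agent.Sga3B.CentLift

variable {S : Scheme.{u}} {G Q : Over S} [GrpObj G] [GrpObj Q] (q : Q ⟶ G)

omit [GrpObj Q] in
/-- The centralizer of a morphism from a smooth geometrically irreducible scheme to a separated group. -/
theorem exists_centralizer [IsSeparated G.hom] [Smooth Q.hom] [GeometricallyIrreducible Q.hom] :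
    ∃ (Z : Over S) (_ : GrpObj Z) (z : Z ⟶ G), IsClosedImmersion z.left ∧
      (IsMonHom z ∧ Mono z ∧ ∀ (T : Over S) (g : T ⟶ G), (∃ a : T ⟶ Z, a ≫ z = g) ↔
        ∀ (T' : Over S) (x : T' ⟶ T) (h : T' ⟶ Q), (x ≫ g) * (h ≫ q) = (h ≫ q) * (x ≫ g)) ∧
      (LocallyOfFiniteType G.hom → LocallyOfFinitePresentation z.left) := by
  have h1 : IsClosedImmersion η[G].left := (S0346.result S G).1.mp inferInstance
  obtain ⟨Z, z, hz, huniv, hfp⟩ := exists_closed_map (X := G) (Q := Q)
    (fst G Q * (snd G Q ≫ q) * (fst G Q)⁻¹ * (snd G Q ≫ q)⁻¹) η[G]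
  have hz' : Mono z := Over.mono_of_mono_left z
  have key : ∀ (T : Over S) (g : T ⟶ G), (∃ a : T ⟶ Z, a ≫ z = g) ↔ g ∈ centPts q T := by
    intro T g
    rw [huniv, mem_centPts]
    refine forall_congr' fun T' => forall_congr' fun x => forall_congr' fun h => ?_
    have e : lift (x ≫ g) h ≫ (fst G Q * (snd G Q ≫ q) * (fst G Q)⁻¹ * (snd G Q ≫ q)⁻¹) =
        (x ≫ g) * (h ≫ q) * (x ≫ g)⁻¹ * (h ≫ q)⁻¹ := by
      simp only [MonObj.comp_mul, GrpObj.comp_inv, lift_fst, lift_snd_assoc]
    rw [e]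
    constructor
    · rintro ⟨b, hb⟩
      have e2 : b ≫ η[G] = 1 := by rw [one_eq_one, MonObj.comp_one]
      rw [e2, eq_comm, mul_inv_eq_one, mul_inv_eq_iff_eq_mul] at hb
      exact hb
    · intro h
      refine ⟨toUnit _, ?_⟩
      have e2 : toUnit T' ≫ η[G] = 1 := by rw [one_eq_one, MonObj.comp_one]
      rw [e2, eq_comm, mul_inv_eq_one, mul_inv_eq_iff_eq_mul]
      exact h
  obtain ⟨i1, i2⟩ := exists_grpObj z (centPts q) key
  exact ⟨Z, i1, z, hz, ⟨i2, hz', fun T g => (key T g).trans (mem_centPts q)⟩,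
    fun h => hfp locallyOfFinitePresentation_one⟩

variable [IsMonHom q] (hQ : Red.IsTorus Q)

include hQ

/-- A centralizer of a homomorphism from a torus to a smooth separated group is smooth. -/
theorem smooth_centralizer [Smooth G.hom] [IsSeparated G.hom] {Z : Over S} (z : Z ⟶ G)
    [GrpObj Z] (hz : Red.IsCentralizerOf q z) [LocallyOfFinitePresentation z.left] : Smooth Z.hom := by
  obtain ⟨-, hz', hz⟩ := hz
  obtain ⟨S', f, hf, hs, hc, h⟩ := hQ
  refine CentSmooth.smooth_of_lift z (fun T => centPts q T) hz f hc fun s' => ?_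
  obtain ⟨U, hU, r, hr⟩ := h s'
  refine ⟨U, hU, fun B _ _ I hI x β hx g₁ hg₁ => ?_⟩
  subst hx
  exact cent_lift q I hI _ (CentSmooth.isSplit_bc _ β hr) g₁ hg₁

/-- The centralizer of a homomorphism from a torus to a smooth separated group. -/
theorem exists_smooth_centralizer [Smooth G.hom] [IsSeparated G.hom] :
    ∃ (Z : Over S) (_ : GrpObj Z) (z : Z ⟶ G), Red.IsCentralizerOf q z ∧ IsClosedImmersion z.left ∧
      Smooth Z.hom ∧ LocallyOfFinitePresentation z.left := by
  have := TorusAlgClosed.smooth_of_isTorus hQ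
  have := TorusIrr.geometricallyIrreducible_of_isTorus hQ
  obtain ⟨Z, i1, z, hz, hzc, hfp⟩ := exists_centralizer q
  have := hfp inferInstance
  exact ⟨Z, i1, z, hzc, hz, smooth_centralizer q hQ z hzc, this⟩

end Groth.Agent.Sga3.H798.CentSep
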