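import Groth.Agent.Sga3.H798.TorusVal
import Groth.Agent.Sga3.H798.FpqcIso
import Groth.Agent.Sga3B.BcPts
import Groth.Agent.Sga3B.MaxTorusCrit
import Mathlib.AlgebraicGeometry.ValuativeCriterion
import Mathlib.AlgebraicGeometry.ZariskisMainTheorem

/-!
# Monomorphisms from tori are closed immersions

* `isClosedImmersion_of_torus`: a homomorphism which is a monomorphism from a torus to a separated group scheme of
finite type, over any base, is a closed immersion.
-/

set_option autoImplicit false
universe u
open CategoryTheory MonoidalCategory CartesianMonoidalCategory MonObj GrpObj AlgebraicGeometry Limits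

namespace Groth.Agent.Sga3.H798.TorusClosed
open Groth.Agent.Sga3B Groth.Agent.Sga3B.DSPts Groth.Agent.Sga3B.InfConj Groth.Agent.Sga3B.InfConjFam PtChart
  TorusAlg Groth.Agent.Sga3B.DSRigid

section local_

variable {R : Type u} [CommRing R] [IsDomain R] [ValuationRing R] {K : Type u} [Field K] [Algebra R K]
  [IsFractionRing R K] {G : Over (Spec (CommRingCat.of R))} [GrpObj G] {M : Type} [AddCommGroup M]
  [UniqueProds (Multiplicative M)]

omit [IsDomain R] [ValuationRing R] in
/-- Two points over a valuation ring which agree over the fraction field. -/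
lemma eq_of_ptMap {Y : Over (Spec (CommRingCat.of R))} [IsSeparated Y.hom] (y y' : pt R R ⟶ Y)
    (h : ptMap (Algebra.ofId R K) ≫ y = ptMap (Algebra.ofId R K) ≫ y') : y = y' := by
  ext1
  refine ext_of_ker_eq_bot Y.hom ((Over.w y).trans (Over.w y').symm) (ptMap (Algebra.ofId R K)).left
    (ker_specMap _ (IsFractionRing.injective R K)) ?_
  exact congr(($h).left)

/-- A point over the fraction field of a subtorus which extends to an integral point of the group is an integral
point of the torus. -/
theorem exists_lift (i : Red.DS (Spec (.of R)) M ⟶ G) [IsMonHom i] [Mono i] [LocallyOfFiniteType G.hom]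
    [QuasiCompact G.hom] [IsSeparated G.hom] (x : pt R K ⟶ Red.DS (Spec (.of R)) M) (y : pt R R ⟶ G)
    (hy : ptMap (Algebra.ofId R K) ≫ y = x ≫ i) :
    ∃ t : pt R R ⟶ Red.DS (Spec (.of R)) M, t ≫ i = y := by
  obtain ⟨χ, rfl⟩ := exists_eq_charPt x
  have h1 : ∀ m, ∃ u : Rˣ, algebraMap R K u = χ m := fun m =>
    exists_unit_of_eq_one (TorusVal.val_eq_one i χ y hy m)
  choose u hu using h1
  have hinj := IsFractionRing.injective R K
  let χ' : Multiplicative M →* R :=
    { toFun := fun m => (u m : R)
      map_one' := hinj (by rw [hu, map_one, map_one])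
      map_mul' := fun m m' => hinj (by rw [map_mul, hu, hu, hu, map_mul]) }
  refine ⟨charPt χ', eq_of_ptMap (K := K) _ _ ?_⟩
  have h2 : ptMap (Algebra.ofId R K) ≫ charPt (C := R) χ' = charPt χ := by
    rw [ptMap_charPt]
    congr 1
    exact MonoidHom.ext fun m => hu m
  rw [hy, ← h2, Category.assoc]

end local_

variable {S : Scheme.{u}}

lemma pt_hom_self (R : Type u) [CommRing R] : (pt R R).hom = 𝟙 _ := by
  change Spec.map (CommRingCat.ofHom (algebraMap R R)) = _
  rw [Algebra.algebraMap_self]
  exact Spec.map_id _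

/-- Lifting of integral points. -/
theorem exists_lift_over {R : Type u} [CommRing R] [IsDomain R] [ValuationRing R] {K : Type u} [Field K] [Algebra R K]
    [IsFractionRing R K] {G : Over S} [GrpObj G] {M : Type} [AddCommGroup M] [UniqueProds (Multiplicative M)]
    (i : Red.DS S M ⟶ G) [IsMonHom i] [Mono i] [IsSeparated G.hom] [LocallyOfFiniteType G.hom] [QuasiCompact G.hom]
    (s : Spec (.of R) ⟶ S) (x₀ : (Over.map s).obj (pt R K) ⟶ Red.DS S M) (y₀ : (Over.map s).obj (pt R R) ⟶ G)
    (hxy : (Over.map s).map (ptMap (Algebra.ofId R K)) ≫ y₀ = x₀ ≫ i) :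
    ∃ l : (Over.map s).obj (pt R R) ⟶ Red.DS S M, l ≫ i = y₀ := by
  let e := RedIso.und (TorusAlgClosed.dsBcIso s M)
  have h1 : IsMonHom (e.inv ≫ (Over.pullback s).map i) := inferInstance
  have h2 : Mono (e.inv ≫ (Over.pullback s).map i) := inferInstance
  have h3 : IsSeparated (Red.bc s G).hom := inferInstanceAs (IsSeparated (pullback.snd _ _))
  have h4 : LocallyOfFiniteType (Red.bc s G).hom := inferInstanceAs (LocallyOfFiniteType (pullback.snd _ _))
  have h5 : QuasiCompact (Red.bc s G).hom := inferInstanceAs (QuasiCompact (pullback.snd _ _))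
  obtain ⟨t, ht⟩ := exists_lift (K := K) (e.inv ≫ (Over.pullback s).map i) (BcPts.bcEquiv s _ _ x₀ ≫ e.hom)
    (BcPts.bcEquiv s _ _ y₀) (by
      rw [Category.assoc, e.hom_inv_id_assoc, ← BcPts.bcEquiv_comp, ← hxy, BcPts.comp_bcEquiv])
  refine ⟨(BcPts.bcEquiv s _ _).symm (t ≫ e.inv), ?_⟩
  apply (BcPts.bcEquiv s _ _).injective
  rw [BcPts.bcEquiv_comp, Equiv.apply_symm_apply, Category.assoc]
  exact ht

/-- The case of a split torus. -/
theorem split_case {G : Over S} [GrpObj G] {M : Type} [AddCommGroup M] [UniqueProds (Multiplicative M)]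
    (i : Red.DS S M ⟶ G) [IsMonHom i] [Mono i] [IsSeparated G.hom] [LocallyOfFiniteType G.hom] [QuasiCompact G.hom]
    [QuasiCompact i.left] :
    UniversallyClosed i.left := by
  have hmono : Mono i.left := inferInstance
  refine UniversallyClosed.of_valuativeCriterion _ fun sq => ?_
  obtain ⟨R, K, i₁, i₂, ⟨hw⟩⟩ := sq
  obtain ⟨l, hl⟩ := exists_lift_over (R := R) (K := K) i (i₂ ≫ G.hom)
    (Over.homMk i₁ (by
      change i₁ ≫ (Red.DS S M).hom = Spec.map (CommRingCat.ofHom (algebraMap R K)) ≫ i₂ ≫ G.hom
      rw [← Over.w i, ← Category.assoc, hw, Category.assoc]))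
    (Over.homMk i₂ (by
      change i₂ ≫ G.hom = (pt R R).hom ≫ i₂ ≫ G.hom
      rw [pt_hom_self, Category.id_comp])) (by
      ext1
      exact hw.symm)
  have h1 : l.left ≫ i.left = i₂ := congrArg (fun f => f.left) hl
  refine ⟨⟨l.left, ?_, h1⟩⟩
  rw [← cancel_mono i.left, Category.assoc, h1]
  exact hw.symm

/-- A torus is quasi-compact and of finite type over the base. -/
lemma torus_props {T : Over S} [GrpObj T] (hT : Red.IsTorus T) : IsAffineHom T.hom ∧ LocallyOfFiniteType T.hom :=
  ⟨TorusAlgClosed.prop_of_isTorus (P := @IsAffineHom) (fun _ => inferInstance) hT,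
    TorusAlgClosed.prop_of_isTorus (P := @LocallyOfFiniteType) (fun _ => inferInstance) hT⟩

/-- **A homomorphism from a torus to a separated group scheme of finite type which is a monomorphism is a closed
immersion.** -/
theorem isClosedImmersion_of_torus {T G : Over S} [GrpObj T] [GrpObj G] (i : T ⟶ G) [IsMonHom i] [Mono i]
    (hT : Red.IsTorus T) [IsSeparated G.hom] [LocallyOfFiniteType G.hom] [QuasiCompact G.hom] :
    IsClosedImmersion i.left := by
  have hT' := hT
  obtain ⟨S', f, hf, hs, hc, h⟩ := hT'
  refine FpqcIso.prop_of_fpqc_cover (P := @IsClosedImmersion) f hc i fun s' => ?_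
  obtain ⟨U, hU, r, ⟨e⟩⟩ := h s'
  refine ⟨U, hU, ?_⟩
  let g := U.ι ≫ f
  have : IsSeparated (Red.bc g G).hom := inferInstanceAs (IsSeparated (pullback.snd _ _))
  have : LocallyOfFiniteType (Red.bc g G).hom := inferInstanceAs (LocallyOfFiniteType (pullback.snd _ _))
  have : QuasiCompact (Red.bc g G).hom := inferInstanceAs (QuasiCompact (pullback.snd _ _))
  let i' : Red.DS (U : Scheme.{u}) (Fin r → ℤ) ⟶ Red.bc g G := (RedIso.und e).inv ≫ (Over.pullback g).map i
  have hi' : IsMonHom i' := inferInstanceAs (IsMonHom ((RedIso.und e).inv ≫ (Over.pullback g).map i))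
  have hm' : Mono i' := inferInstanceAs (Mono ((RedIso.und e).inv ≫ (Over.pullback g).map i))
  have hml : Mono i'.left := inferInstance
  obtain ⟨h1, h2⟩ := torus_props (MaxTorusCrit.isTorus_DS (U : Scheme.{u}) r)
  have h3 : QuasiCompact (i'.left ≫ (Red.bc g G).hom) := by rw [Over.w i']; infer_instance
  have h4 : LocallyOfFiniteType (i'.left ≫ (Red.bc g G).hom) := by rw [Over.w i']; infer_instance
  have h5 : QuasiCompact i'.left := QuasiCompact.of_comp _ (Red.bc g G).hom
  have h6 : LocallyOfFiniteType i'.left := locallyOfFiniteType_of_comp _ (Red.bc g G).hom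
  have h7 : UniversallyClosed i'.left := split_case i'
  have h8 : IsClosedImmersion i'.left := by
    rw [IsClosedImmersion.iff_isProper_and_mono]
    exact ⟨{}, hml⟩
  have h9 : ((Over.pullback g).map i) = (RedIso.und e).hom ≫ i' := ((RedIso.und e).hom_inv_id_assoc _).symm
  have h10 : IsIso (RedIso.und e).hom.left := inferInstanceAs (IsIso ((Over.forget _).map (RedIso.und e).hom))
  change IsClosedImmersion ((Over.pullback g).map i).left
  rw [h9, Over.comp_left]
  infer_instance

end Groth.Agent.Sga3.H798.TorusClosed
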