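import Groth.Agent.Sga3.H798.CentSep
import Groth.Agent.Sga3B.TorSep602
import Mathlib.AlgebraicGeometry.Morphisms.FlatMono

/-!
# Commuting homomorphisms from a torus agree over an open and closed part of the base

`a b : Q ⟶ G` homomorphisms from a torus to a separated group whose points commute.  Then there is an open and
closed `U` in `S` such that `a` and `b` agree over `T ⟶ S` iff `T ⟶ S` factors through `U`.
-/

set_option autoImplicit false
universe u
open CategoryTheory MonoidalCategory CartesianMonoidalCategory MonObj GrpObj AlgebraicGeometry Limits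

namespace Groth.Agent.Sga3.H798.AgreeOpen

open Groth.Agent.Sga3B Groth.Agent.Sga3B.InfConj Groth.Agent.Sga3B.InfConjFam Groth.Agent.Sga3B.DSPts
  Groth.Agent.Sga3B.DSRigid Groth.Agent.Sga3B.CentRep Groth.Agent.Sga3B.CentLift

variable {S : Scheme.{u}}

lemma ds_comm {M : Type} [AddCommGroup M] {T : Over S} (d₁ d₂ : T ⟶ Red.DS S M) : d₁ * d₂ = d₂ * d₁ := by
  apply (dsEquiv T M).symm.injective
  rw [map_mul, map_mul, _root_.mul_comm]

/-- Infinitesimal rigidity: commuting homomorphisms from a torus which agree modulo a square-zero ideal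
of a local ring agree. -/
theorem rigid {G Q : Over S} [GrpObj G] [GrpObj Q] (a b : Q ⟶ G) [IsMonHom a] [IsMonHom b]
    [IsSeparated G.hom]
    (hcomm : ∀ (X : Over S) (x y : X ⟶ Q), (x ≫ a) * (y ≫ b) = (y ≫ b) * (x ≫ a))
    {B : Type u} [CommRing B] [IsLocalRing B] (I : Ideal B) (hI : I * I = ⊥)
    (x : Spec (CommRingCat.of B) ⟶ S) {M : Type} [AddCommGroup M]
    (hQ : Red.IsSplitTorusWith M (Red.bc x Q))
    (h : (fst Q (Over.mk (Spec.map (CommRingCat.ofHom (Ideal.Quotient.mk I)) ≫ x))) ≫ a =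
      (fst Q (Over.mk (Spec.map (CommRingCat.ofHom (Ideal.Quotient.mk I)) ≫ x))) ≫ b) :
    fst Q (Over.mk x) ≫ a = fst Q (Over.mk x) ≫ b := by
  obtain ⟨e, he, ψ, hψ1, hψ2⟩ := exists_isIsoFamily x hQ
  let c : Red.DS S M ⊗ Over.mk x ⟶ G := (e ≫ a) * (e ≫ b)⁻¹
  have hc' : ∀ (T : Over S) (d : T ⟶ Red.DS S M) (t : T ⟶ Over.mk x),
      lift d t ≫ c = ((lift d t ≫ e) ≫ a) * ((lift d t ≫ e) ≫ b)⁻¹ := by
    intro T d t
    simp only [c, MonObj.comp_mul, GrpObj.comp_inv, Category.assoc]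
  have hc : AutFam.IsHomFamily (Red.DS S M) G c := by
    intro T d₁ d₂ t
    have h5 : ((lift d₁ t ≫ e) ≫ b) * ((lift d₂ t ≫ e) ≫ b) =
        ((lift d₂ t ≫ e) ≫ b) * ((lift d₁ t ≫ e) ≫ b) := by
      rw [← MonObj.mul_comp _ _ b, ← MonObj.mul_comp _ _ b, ← he, ← he, ds_comm]
    rw [hc', hc', hc', he, MonObj.mul_comp, MonObj.mul_comp]
    have h1 := hcomm T (lift d₂ t ≫ e) (lift d₁ t ≫ e)
    generalize (lift d₁ t ≫ e) ≫ a = a₁ at *
    generalize (lift d₂ t ≫ e) ≫ a = a₂ at *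
    generalize (lift d₁ t ≫ e) ≫ b = b₁ at *
    generalize (lift d₂ t ≫ e) ≫ b = b₂ at *
    have h6 : Commute a₂ b₁⁻¹ := Commute.inv_right h1
    have h7 : Commute b₂⁻¹ b₁⁻¹ := (Commute.inv_inv (show Commute b₁ b₂ from h5)).symm
    have h8 : Commute (a₂ * b₂⁻¹) b₁⁻¹ := h6.mul_left h7
    calc a₁ * a₂ * (b₁ * b₂)⁻¹ = a₁ * ((a₂ * b₂⁻¹) * b₁⁻¹) := by group
      _ = a₁ * (b₁⁻¹ * (a₂ * b₂⁻¹)) := by rw [h8.eq]
      _ = a₁ * b₁⁻¹ * (a₂ * b₂⁻¹) := by group
  have h1 : AutFam.IsHomFamily (Red.DS S M) G (1 : Red.DS S M ⊗ Over.mk x ⟶ G) := by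
    intro T d₁ d₂ t
    simp only [MonObj.comp_one, _root_.mul_one]
  obtain ⟨w, -, hw⟩ := infConj_family x G I hI (LocalLift.hasAffineUnitNhd_of_isLocalRing _) c 1 hc h1 (by
    have h2 := congrArg (fun k => (lift ((Red.DS S M ◁ redMap x I) ≫ e) (snd _ _)) ≫ k) h
    simp only [lift_fst_assoc, Category.assoc] at h2
    simp only [c, MonObj.comp_mul, GrpObj.comp_inv, MonObj.comp_one]
    rw [mul_inv_eq_one]
    exact h2)
  have h3 : ∀ (T : Over S) (g : T ⟶ Q) (t : T ⟶ Over.mk x), g ≫ a = g ≫ b := by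
    intro T g t
    have h4 := hw T (lift g t ≫ ψ) t
    rw [hc', hψ2, MonObj.comp_one, _root_.mul_one, mul_inv_cancel, mul_inv_eq_one] at h4
    exact h4
  exact h3 _ _ (snd _ _)

/-- Commuting homomorphisms from a torus to a separated group agree over an open and closed part of the
base. -/
theorem exists_clopen {G Q : Over S} [GrpObj G] [GrpObj Q] (a b : Q ⟶ G) [IsMonHom a] [IsMonHom b]
    [IsSeparated G.hom] [LocallyOfFiniteType G.hom] (hQ : Red.IsTorus Q)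
    (hcomm : ∀ (X : Over S) (x y : X ⟶ Q), (x ≫ a) * (y ≫ b) = (y ≫ b) * (x ≫ a)) :
    ∃ U : S.Opens, IsClosed (U : Set S) ∧ ∀ T : Over S,
      (fst Q T ≫ a = fst Q T ≫ b ↔ Set.range T.hom ⊆ U) := by
  have := TorusAlgClosed.smooth_of_isTorus hQ
  have := TorusIrr.geometricallyIrreducible_of_isTorus hQ
  obtain ⟨Z, z, hz, huniv, hfp⟩ := TorSep602.exists_agree Q G (𝟙_ (Over S)) (fst Q _ ≫ a) (fst Q _ ≫ b)
  have hfp' := hfp inferInstance
  have hZ : Z.hom = z.left := by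
    rw [← Over.w z]
    exact Category.comp_id _
  have key : ∀ T : Over S, (∃ k : T ⟶ Z, True) ↔ fst Q T ≫ a = fst Q T ≫ b := by
    intro T
    have h1 := huniv T (toUnit T)
    rw [whiskerLeft_fst_assoc, whiskerLeft_fst_assoc] at h1
    rw [← h1]
    exact ⟨fun ⟨k, _⟩ => ⟨k, toUnit_unique _ _⟩, fun ⟨k, _⟩ => ⟨k, trivial⟩⟩
  have h1 : IsClosedImmersion Z.hom := by rw [hZ]; exact hz
  have h2 : LocallyOfFinitePresentation Z.hom := by rw [hZ]; exact hfp'
  have h3 : Smooth Z.hom := by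
    have hQ' := hQ
    obtain ⟨S', f, hf, hs, hc, h⟩ := hQ'
    refine LocalLift.smooth_of_local_lift_fpqc Z f hc fun s' => ?_
    obtain ⟨U, hU, r, hr⟩ := h s'
    refine ⟨U, hU, fun B _ _ I hI α β hαβ => ?_⟩
    let x : Spec (CommRingCat.of B) ⟶ S := β ≫ U.ι ≫ f
    let α₀ : Over.mk (Spec.map (CommRingCat.ofHom (Ideal.Quotient.mk I)) ≫ x) ⟶ Z := Over.homMk α hαβ.symm
    have h5 := (key _).mp ⟨α₀, trivial⟩
    have h6 := rigid a b hcomm I hI x (CentSmooth.isSplit_bc _ β hr) h5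
    obtain ⟨γ, -⟩ := (key _).mpr h6
    refine ⟨γ.left, ?_, Over.w γ⟩
    rw [← cancel_mono Z.hom, Category.assoc, ← hαβ]
    congr 1
    exact Over.w γ
  have h4 : IsOpenImmersion Z.hom := IsOpenImmersion.of_flat_of_mono Z.hom
  refine ⟨Z.hom.opensRange, ?_, fun T => ?_⟩
  · exact h1.isClosedEmbedding.isClosed_range
  · rw [← key T]
    constructor
    · rintro ⟨k, -⟩
      rintro _ ⟨t, rfl⟩
      refine ⟨k.left t, ?_⟩
      rw [← Scheme.Hom.comp_apply, Over.w k]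
    · intro h
      exact ⟨Over.homMk (IsOpenImmersion.lift Z.hom T.hom h) (IsOpenImmersion.lift_fac _ _ _), trivial⟩

end Groth.Agent.Sga3.H798.AgreeOpen
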