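import Groth.Agent.Sga3B.InfConjFam
import Mathlib.RingTheory.Spectrum.Prime.Homeomorph

/-!
# Points of a group scheme near the unit section

`R` a ring, `G` a group scheme over `Spec R`, `j : pt R A ⟶ G` an affine open chart containing the unit section.
-/

set_option autoImplicit false
universe u
open CategoryTheory MonoidalCategory CartesianMonoidalCategory MonObj GrpObj AlgebraicGeometry Limits

namespace Groth.Agent.Sga3.H798.PtChart
open Groth.Agent.Sga3B.DSPts Groth.Agent.Sga3B.InfConj Groth.Agent.Sga3B.InfConjFam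

variable {R : Type u} [CommRing R]

lemma ptMap_injective {A E : Type u} [CommRing A] [CommRing E] [Algebra R A] [Algebra R E] {φ ψ : A →ₐ[R] E}
    (h : ptMap φ = ptMap ψ) : φ = ψ := by
  have h1 := congrArg (·.left) h
  simp only [ptMap_left] at h1
  have h2 := Spec.map_injective h1
  ext a
  exact congr($h2 a)

lemma exists_ptMap {A E : Type u} [CommRing A] [CommRing E] [Algebra R A] [Algebra R E] (f : pt R E ⟶ pt R A) :
    ∃ φ : A →ₐ[R] E, f = ptMap φ := by
  let l : Spec (CommRingCat.of E) ⟶ Spec (CommRingCat.of A) := f.left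
  let g : CommRingCat.of A ⟶ CommRingCat.of E := Spec.preimage l
  have hg : Spec.map g = l := Spec.map_preimage l
  have h1 : Spec.map g ≫ Spec.map (CommRingCat.ofHom (algebraMap R A)) =
      Spec.map (CommRingCat.ofHom (algebraMap R E)) := by
    rw [hg]
    exact Over.w f
  rw [← Spec.map_comp] at h1
  have h2 := Spec.map_injective h1
  refine ⟨{ g.hom with commutes' := fun r => congr($h2 r) }, ?_⟩
  ext1
  rw [ptMap_left]
  exact hg.symm

/-- A point whose image lies in an open chart. -/
lemma exists_eq_ptMap_comp {G : Over (Spec (CommRingCat.of R))} {A E : Type u} [CommRing A] [CommRing E]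
    [Algebra R A] [Algebra R E] (j : pt R A ⟶ G) [IsOpenImmersion j.left] (x : pt R E ⟶ G)
    (hx : Set.range x.left ⊆ Set.range j.left) : ∃ φ : A →ₐ[R] E, x = ptMap φ ≫ j := by
  let l : pt R E ⟶ pt R A := Over.homMk (IsOpenImmersion.lift j.left x.left hx) (by
    have h1 : IsOpenImmersion.lift j.left x.left hx ≫ j.left = x.left := IsOpenImmersion.lift_fac _ _ _
    rw [← Over.w j, ← Category.assoc, h1]
    exact Over.w x)
  obtain ⟨φ, hφ⟩ := exists_ptMap l
  refine ⟨φ, ?_⟩
  rw [← hφ]
  ext1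
  exact (IsOpenImmersion.lift_fac _ _ _).symm

lemma one_eq_toUnit {X G : Over (Spec (CommRingCat.of R))} [GrpObj G] : (1 : X ⟶ G) = toUnit X ≫ η[G] := by
  rw [one_eq_one, MonObj.comp_one]

/-- An affine open chart around the unit section. -/
lemma exists_chart (G : Over (Spec (CommRingCat.of R))) [GrpObj G] (h : HasAffineUnitNhd G) :
    ∃ (A : Type u) (_ : CommRing A) (_ : Algebra R A) (j : pt R A ⟶ G) (_ : IsOpenImmersion j.left)
      (ε : A →ₐ[R] R), (1 : pt R R ⟶ G) = ptMap ε ≫ j := by
  obtain ⟨D, j₀, hj, hr⟩ := h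
  let κ : CommRingCat.of R ⟶ D := Spec.preimage (j₀ ≫ G.hom)
  have hκ : Spec.map κ = j₀ ≫ G.hom := Spec.map_preimage _
  let _ : Algebra R D := κ.hom.toAlgebra
  let j : pt R D ⟶ G := Over.homMk j₀ hκ.symm
  have hj' : IsOpenImmersion j.left := hj
  obtain ⟨ε, hε⟩ := exists_eq_ptMap_comp (E := R) j (1 : pt R R ⟶ G) (by
    rintro _ ⟨y, rfl⟩
    apply hr
    rw [one_eq_toUnit]
    exact ⟨(toUnit (pt R R)).left y, by simp⟩)
  exact ⟨D, inferInstance, inferInstance, j, hj', ε, hε⟩

/-- A point which is in the chart modulo a nil ideal is in the chart. -/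
lemma range_subset_of_nil {G : Over (Spec (CommRingCat.of R))} {A E E' : Type u} [CommRing A] [CommRing E]
    [CommRing E'] [Algebra R A] [Algebra R E] [Algebra R E'] (j : pt R A ⟶ G) (q : E →ₐ[R] E')
    (hq : Function.Surjective q) (hker : RingHom.ker q ≤ nilradical E) (x : pt R E ⟶ G) (φ : A →ₐ[R] E')
    (hx : ptMap q ≫ x = ptMap φ ≫ j) : Set.range x.left ⊆ Set.range j.left := by
  rintro _ ⟨p, rfl⟩
  have hs : p ∈ Set.range (PrimeSpectrum.comap q.toRingHom) := by
    rw [range_comap_of_surjective _ _ hq]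
    intro a ha
    have h1 : a ∈ nilradical E := hker ha
    rw [nilradical_eq_sInf] at h1
    exact Ideal.mem_sInf.mp h1 p.2
  obtain ⟨p', hp'⟩ := hs
  have h1 : (ptMap q).left p' = p := hp'
  refine ⟨(ptMap φ).left p', ?_⟩
  have h2 : (ptMap q ≫ x).left p' = (ptMap φ ≫ j).left p' := by rw [hx]
  simp only [Over.comp_left, Scheme.Hom.comp_apply] at h2
  rw [← h2, h1]

/-- A point over a local ring which is in the chart at the closed point is in the chart. -/
lemma range_subset_of_local {G : Over (Spec (CommRingCat.of R))} {A E k : Type u} [CommRing A] [CommRing E]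
    [IsLocalRing E] [Field k] [Algebra R A] [Algebra R E] [Algebra R k] (j : pt R A ⟶ G) [IsOpenImmersion j.left]
    (q : E →ₐ[R] k) (hq : RingHom.ker q = IsLocalRing.maximalIdeal E) (x : pt R E ⟶ G) (φ : A →ₐ[R] k)
    (hx : ptMap q ≫ x = ptMap φ ≫ j) : Set.range x.left ⊆ Set.range j.left := by
  let U : (Spec (CommRingCat.of E)).Opens := x.left ⁻¹ᵁ j.left.opensRange
  have h0 : (ptMap q).left (⊥ : PrimeSpectrum k) = IsLocalRing.closedPoint E := by
    apply PrimeSpectrum.ext
    change Ideal.comap q.toRingHom ⊥ = _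
    rw [← RingHom.ker_eq_comap_bot]
    exact hq
  have h1 : IsLocalRing.closedPoint E ∈ U := by
    change x.left _ ∈ Set.range j.left
    rw [← h0]
    refine ⟨(ptMap φ).left (⊥ : PrimeSpectrum k), ?_⟩
    have h2 : (ptMap q ≫ x).left (⊥ : PrimeSpectrum k) = (ptMap φ ≫ j).left (⊥ : PrimeSpectrum k) := by rw [hx]
    simp only [Over.comp_left, Scheme.Hom.comp_apply] at h2
    exact h2.symm
  have h2 : U = ⊤ := (IsLocalRing.closed_point_mem_iff (U := U)).mp h1
  rintro _ ⟨y, rfl⟩
  have h3 : y ∈ U := by rw [h2]; trivial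
  exact h3

lemma comp_one' {X Y G : Over (Spec (CommRingCat.of R))} [GrpObj G] (f : X ⟶ Y) : f ≫ (1 : Y ⟶ G) = 1 :=
  MonObj.comp_one f

end Groth.Agent.Sga3.H798.PtChart
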