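import Mathlib.RingTheory.Valuation.ValuationRing
import Mathlib.RingTheory.LocalRing.ResidueField.Basic
import Mathlib.Algebra.MonoidAlgebra.NoZeroDivisors
import Mathlib.Algebra.MonoidAlgebra.Basic
import Mathlib.Algebra.Algebra.Epi
import Mathlib.Algebra.Field.Subfield.Basic
import Mathlib.LinearAlgebra.Basis.VectorSpace
import Mathlib.RingTheory.TensorProduct.Basic
import Mathlib.RingTheory.FiniteType

/-!
# Gauss valuation argument for points of tori over valuation rings

`R` a valuation ring, `K` its fraction field, `k` its residue field, `h : Γ → Kˣ` a character.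
`key`: for all but finitely many `N`, if the translate by `h ^ N` of a rational function `P / Q` on the torus `D(Γ)` over
`K` is defined at the generic point of the special fibre, its reduction is a quotient of elements of `k[Γ']` where
`Γ' = {m | v (h m) = 1}`.
-/

set_option autoImplicit false

namespace Groth.Agent.Sga3.H798.TorusAlg

open MonoidAlgebra TensorProduct

section epi

universe u

/-- An epimorphism to a field `κ` with image in a subfield `F`: then `F = κ`. -/
theorem mem_of_epi {κ : Type u} [Field κ] (F : Subfield κ) {A : Type u} [CommRing A] (ρ : A →+* κ)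
    (hρ : ∀ a, ρ a ∈ F)
    (hepi : ∀ (Ω : Type u) [CommRing Ω] (f g : κ →+* Ω), f.comp ρ = g.comp ρ → f = g) (x : κ) : x ∈ F := by
  have h1 := hepi (κ ⊗[F] κ) (Algebra.TensorProduct.includeLeftRingHom : κ →+* κ ⊗[F] κ)
    (Algebra.TensorProduct.includeRight : κ →ₐ[F] κ ⊗[F] κ).toRingHom (by
      ext a
      exact Algebra.TensorProduct.tmul_one_eq_one_tmul (⟨ρ a, hρ a⟩ : F))
  have h2 : x ⊗ₜ[F] (1 : κ) = (1 : κ) ⊗ₜ[F] x := congr($h1 x)
  obtain ⟨φ, hφ⟩ := LinearMap.exists_leftInverse_of_injective (Algebra.linearMap F κ)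
    (LinearMap.ker_eq_bot.mpr (algebraMap F κ).injective)
  have hφ1 : φ 1 = 1 := by
    have := congr($hφ 1)
    simpa using this
  have h3 := congrArg (TensorProduct.lift ((LinearMap.lsmul F κ).comp φ)) h2
  simp only [TensorProduct.lift.tmul, LinearMap.comp_apply, LinearMap.lsmul_apply, hφ1, one_smul] at h3
  rw [← h3, Algebra.smul_def, mul_one]
  exact (φ x).2

end epi

variable {R K k : Type*} [CommRing R] [IsDomain R] [ValuationRing R] [Field K] [Algebra R K]
  [IsFractionRing R K] [Field k] [Algebra R k]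

local notation "v" => ValuationRing.valuation R K

section val

lemma exists_of_le_one {x : K} (h : v x ≤ 1) : ∃ r : R, algebraMap R K r = x :=
  (ValuationRing.mem_integer_iff R K x).mp h

lemma le_one (r : R) : v (algebraMap R K r) ≤ 1 :=
  (ValuationRing.mem_integer_iff R K _).mpr ⟨r, rfl⟩

lemma exists_unit_of_eq_one {x : K} (h : v x = 1) : ∃ u : Rˣ, algebraMap R K u = x := by
  have hx : x ≠ 0 := by
    rintro rfl
    rw [map_zero] at h
    exact zero_ne_one h
  obtain ⟨r, hr⟩ := exists_of_le_one h.le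
  obtain ⟨s, hs⟩ := exists_of_le_one (R := R) (x := x⁻¹) (by rw [map_inv₀, h, inv_one])
  have hrs : r * s = 1 := by
    apply IsFractionRing.injective R K
    rw [map_mul, hr, hs, map_one, mul_inv_cancel₀ hx]
  exact ⟨⟨r, s, hrs, by rw [mul_comm, hrs]⟩, hr⟩

lemma exists_mem_of_lt_one {x : K} (h : v x < 1) :
    ∃ r ∈ IsLocalRing.maximalIdeal R, algebraMap R K r = x := by
  obtain ⟨r, hr⟩ := exists_of_le_one h.le
  refine ⟨r, ?_, hr⟩
  rw [IsLocalRing.mem_maximalIdeal, mem_nonunits_iff]
  rintro ⟨u, rfl⟩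
  have h1 : v (algebraMap R K (u : R)) * v (algebraMap R K ((u⁻¹ : Rˣ) : R)) = 1 := by
    rw [← map_mul, ← map_mul, Units.mul_inv, map_one, map_one]
  have h2 : v (algebraMap R K ((u⁻¹ : Rˣ) : R)) ≤ 1 := le_one _
  rw [hr] at h1
  have h3 : v x * v (algebraMap R K ((u⁻¹ : Rˣ) : R)) < 1 := mul_lt_one_of_lt_of_le h h2
  exact (h1 ▸ h3).ne rfl

lemma pow_ne_one {x : K} (h : v x ≠ 1) {n : ℕ} (hn : n ≠ 0) : v x ^ n ≠ 1 := by
  rcases lt_or_gt_of_ne h with h | h
  · exact (pow_lt_one₀ zero_le h hn).ne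
  · exact (one_lt_pow₀ h hn).ne'

end val

variable {Γ : Type*} [CommGroup Γ] (h : Γ →* K)

lemma char_ne_zero (m : Γ) : h m ≠ 0 := (Group.isUnit m).map h |>.ne_zero

variable (R) in
/-- Two characters differing by a nonunit have different sizes for all but finitely many powers. -/
lemma finite_bad (P Q : MonoidAlgebra K Γ) : {N : ℕ | ∃ b b', P.coeff b ≠ 0 ∧ Q.coeff b' ≠ 0 ∧
    v (h b) ≠ v (h b') ∧ v (P.coeff b * h b ^ N) = v (Q.coeff b' * h b' ^ N)}.Finite := by
  refine Set.Finite.subset (Set.Finite.biUnion P.coeff.support.finite_toSet (t := fun b =>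
    ⋃ b' ∈ (Q.coeff.support : Set Γ), {N : ℕ | v (h b) ≠ v (h b') ∧ v (P.coeff b * h b ^ N) = v (Q.coeff b' * h b' ^ N)})
    fun b hb => Set.Finite.biUnion Q.coeff.support.finite_toSet fun b' hb' => ?_) ?_
  · refine Set.Subsingleton.finite ?_
    have key : ∀ N n : ℕ, v (h b) ≠ v (h b') → v (P.coeff b * h b ^ N) = v (Q.coeff b' * h b' ^ N) →
        v (P.coeff b * h b ^ (N + n)) = v (Q.coeff b' * h b' ^ (N + n)) → n = 0 := by
      intro N n hne h1 h2
      by_contra hn
      have hP : P.coeff b ≠ 0 := Finsupp.mem_support_iff.mp hb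
      have hb0 := char_ne_zero h b
      have hb0' := char_ne_zero h b'
      rw [pow_add, pow_add, ← mul_assoc, ← mul_assoc, map_mul, map_mul _ (Q.coeff b' * _), h1] at h2
      have hQ : v (Q.coeff b' * h b' ^ N) ≠ 0 := by
        rw [← h1, (ValuationRing.valuation R K).ne_zero_iff]
        exact mul_ne_zero hP (pow_ne_zero _ hb0)
      have h3 := mul_left_cancel₀ hQ h2
      refine pow_ne_one (R := R) (x := h b / h b') ?_ hn ?_
      · rw [map_div₀]
        intro h4
        rw [div_eq_one_iff_eq ((ValuationRing.valuation R K).ne_zero_iff.mpr hb0')] at h4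
        exact hne h4
      · rw [← map_pow, div_pow, map_div₀, h3, div_self]
        exact (ValuationRing.valuation R K).ne_zero_iff.mpr (pow_ne_zero _ hb0')
    rintro N ⟨hN, hN'⟩ N₁ ⟨-, hN₁'⟩
    rcases le_total N N₁ with hle | hle
    · obtain ⟨n, rfl⟩ := Nat.exists_eq_add_of_le hle
      rw [key N n hN hN' hN₁']
      rfl
    · obtain ⟨n, rfl⟩ := Nat.exists_eq_add_of_le hle
      rw [key N₁ n hN hN₁' hN']
      rfl
  · rintro N ⟨b, b', hb, hb', h1, h2⟩
    simp only [Set.mem_iUnion]
    exact ⟨b, Finsupp.mem_support_iff.mpr hb, b', Finsupp.mem_support_iff.mpr hb', h1, h2⟩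

/-- The translation by a character. -/
noncomputable def tw (h : Γ →* K) : MonoidAlgebra K Γ →ₐ[K] MonoidAlgebra K Γ :=
  MonoidAlgebra.lift K _ Γ
    { toFun := fun m => single m (h m)
      map_one' := by rw [map_one]; rfl
      map_mul' := fun m m' => by rw [map_mul, single_mul_single] }

lemma coeff_tw (P : MonoidAlgebra K Γ) (m : Γ) : (tw h P).coeff m = P.coeff m * h m := by
  classical
  induction P using MonoidAlgebra.induction_linear with
  | zero => simp
  | add f g hf hg => rw [map_add, coeff_add, coeff_add, Finsupp.add_apply, Finsupp.add_apply, hf, hg, add_mul]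
  | single a b =>
    rw [tw, MonoidAlgebra.lift_single]
    change (b • single a (h a)).coeff m = (single a b).coeff m * h m
    rw [smul_single, coeff_single, coeff_single, Finsupp.single_apply, Finsupp.single_apply]
    split_ifs with h1
    · rw [h1, smul_eq_mul]
    · rw [zero_mul]

lemma coeff_tw_pow (N : ℕ) (P : MonoidAlgebra K Γ) (m : Γ) :
    (tw (h ^ N) P).coeff m = P.coeff m * h m ^ N := coeff_tw _ _ _

lemma tw_injective : Function.Injective (tw h) := by
  rw [injective_iff_map_eq_zero]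
  intro P hP
  ext m
  have h1 := coeff_tw h P m
  rw [hP] at h1
  have h2 : P.coeff m * h m = 0 := h1.symm
  rcases mul_eq_zero.mp h2 with h3 | h3
  · exact h3
  · exact (char_ne_zero h m h3).elim

/-- Normalisation of an element of `K[Γ]`. -/
lemma exists_normal (hk : RingHom.ker (algebraMap R k) = IsLocalRing.maximalIdeal R)
    (P : MonoidAlgebra K Γ) (b : Γ) (hb : P.coeff b ≠ 0) (hmax : ∀ b', v (P.coeff b') ≤ v (P.coeff b)) :
    ∃ P₁ : MonoidAlgebra R Γ, mapRingHom Γ (algebraMap R K) P₁ = (P.coeff b)⁻¹ • P ∧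
      (mapRingHom Γ (algebraMap R k) P₁).coeff b = 1 ∧
      ∀ m, (mapRingHom Γ (algebraMap R k) P₁).coeff m ≠ 0 → v (P.coeff m) = v (P.coeff b) := by
  have h0 : v (P.coeff b) ≠ 0 := (ValuationRing.valuation R K).ne_zero_iff.mpr hb
  have h1 : (P.coeff b)⁻¹ • P ∈ Set.range (MonoidAlgebra.map (M := Γ) (algebraMap R K : R →+ K)) := by
    rw [MonoidAlgebra.range_map]
    intro m
    obtain ⟨r, hr⟩ := exists_of_le_one (R := R) (x := (P.coeff b)⁻¹ * P.coeff m) (by
      rw [map_mul, map_inv₀, mul_comm, ← div_eq_mul_inv]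
      exact div_le_one_of_le₀ (hmax m) zero_le)
    exact ⟨r, hr⟩
  obtain ⟨P₁, hP₁⟩ := h1
  have h2 : ∀ m, algebraMap R K (P₁.coeff m) = (P.coeff b)⁻¹ * P.coeff m := fun m => congr(($hP₁).coeff m)
  refine ⟨P₁, hP₁, ?_, fun m hm => ?_⟩
  · have h3 : P₁.coeff b = 1 := by
      apply IsFractionRing.injective R K
      rw [h2, inv_mul_cancel₀ hb, map_one]
    rw [coeff_mapRingHom, h3, map_one]
  · refine le_antisymm (hmax m) (not_lt.mp fun h3 => hm ?_)
    obtain ⟨r, hr, hr'⟩ := exists_mem_of_lt_one (R := R) (x := (P.coeff b)⁻¹ * P.coeff m) (by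
      rw [map_mul, map_inv₀, mul_comm, ← div_eq_mul_inv]
      exact (div_lt_one₀ (zero_lt_iff.mpr h0)).mpr h3)
    have h4 : P₁.coeff m = r := IsFractionRing.injective R K ((h2 m).trans hr'.symm)
    rw [coeff_mapRingHom, h4]
    rw [← hk] at hr
    exact hr

lemma map_smul' {S S' : Type*} [CommRing S] [CommRing S'] (f : S →+* S') (c : S) (P : MonoidAlgebra S Γ) :
    mapRingHom Γ f (c • P) = f c • mapRingHom Γ f P := by
  ext m
  simp

omit [Algebra R k] in
/-- An element of the group algebra with support in a coset, divided by a group element. -/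
lemma shift_supp {h : Γ →* K} (P : MonoidAlgebra k Γ) (b b₁ : Γ) (hb : v (h b) = v (h b₁))
    (hP : ∀ m, P.coeff m ≠ 0 → v (h m) = v (h b)) (m : Γ) (hm : (single b₁⁻¹ (1 : k) * P).coeff m ≠ 0) :
    v (h m) = 1 := by
  have h1 : (single b₁⁻¹ (1 : k) * P).coeff m = P.coeff (b₁ * m) := by
    rw [MonoidAlgebra.coeff_single_mul_apply, inv_inv, one_mul]
  rw [h1] at hm
  have h2 := hP _ hm
  rw [hb, map_mul, map_mul] at h2
  have h3 : v (h b₁) ≠ 0 := (ValuationRing.valuation R K).ne_zero_iff.mpr (char_ne_zero h b₁)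
  exact mul_left_cancel₀ h3 (h2.trans (mul_one _).symm)

/-- **Key lemma.** -/
theorem key [IsDomain (MonoidAlgebra k Γ)] [IsDomain (MonoidAlgebra K Γ)]
    (hk : RingHom.ker (algebraMap R k) = IsLocalRing.maximalIdeal R) (P Q : MonoidAlgebra K Γ)
    (hQ : Q ≠ 0) : ∃ B : Set ℕ, B.Finite ∧ ∀ N ∉ B, ∀ U V : MonoidAlgebra R Γ,
      mapRingHom Γ (algebraMap R k) V ≠ 0 →
      tw (h ^ N) P * mapRingHom Γ (algebraMap R K) V = mapRingHom Γ (algebraMap R K) U * tw (h ^ N) Q →
      ∃ P' Q' : MonoidAlgebra k Γ, Q' ≠ 0 ∧ (∀ m, P'.coeff m ≠ 0 → v (h m) = 1) ∧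
        (∀ m, Q'.coeff m ≠ 0 → v (h m) = 1) ∧
        mapRingHom Γ (algebraMap R k) U * Q' = P' * mapRingHom Γ (algebraMap R k) V := by
  classical
  have hinj : Function.Injective (mapRingHom Γ (algebraMap R K)) :=
    MonoidAlgebra.map_injective _ (IsFractionRing.injective R K)
  have one_supp : ∀ m, (1 : MonoidAlgebra k Γ).coeff m ≠ 0 → v (h m) = 1 := by
    intro m hm
    have : m = 1 := by
      by_contra hne
      apply hm
      rw [MonoidAlgebra.one_def, coeff_single, Finsupp.single_apply, if_neg (Ne.symm hne)]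
    rw [this, map_one, map_one]
  by_cases hP : P = 0
  · refine ⟨∅, Set.finite_empty, fun N _ U V hV e => ⟨0, 1, one_ne_zero, by simp, one_supp, ?_⟩⟩
    rw [hP, map_zero, zero_mul] at e
    have h1 : tw (h ^ N) Q ≠ 0 := fun h2 => hQ (tw_injective _ (h2.trans (map_zero _).symm))
    have h2 : U = 0 := hinj ((mul_eq_zero.mp e.symm).resolve_right h1 |>.trans (map_zero _).symm)
    rw [h2, map_zero, zero_mul, zero_mul]
  · refine ⟨_, ((finite_bad R h P P).union (finite_bad R h Q Q)).union (finite_bad R h P Q),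
      fun N hN U V hV e => ?_⟩
    -- choose maximal coefficients
    have hmax : ∀ F : MonoidAlgebra K Γ, F ≠ 0 → ∃ b, F.coeff b ≠ 0 ∧
        ∀ m, v ((tw (h ^ N) F).coeff m) ≤ v ((tw (h ^ N) F).coeff b) := by
      intro F hF
      obtain ⟨b, hb, hb'⟩ := Finset.exists_max_image F.coeff.support (fun m => v ((tw (h ^ N) F).coeff m))
        (Finsupp.support_nonempty_iff.mpr fun h0 => hF (coeff_injective h0))
      refine ⟨b, Finsupp.mem_support_iff.mp hb, fun m => ?_⟩
      by_cases hm : m ∈ F.coeff.support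
      · exact hb' m hm
      · have : F.coeff m = 0 := by simpa using hm
        rw [coeff_tw_pow, this, zero_mul, map_zero]
        exact zero_le
    obtain ⟨b, hb, hbm⟩ := hmax P hP
    obtain ⟨a, ha, ham⟩ := hmax Q hQ
    have hb' : (tw (h ^ N) P).coeff b ≠ 0 := by
      rw [coeff_tw_pow]; exact mul_ne_zero hb (pow_ne_zero _ (char_ne_zero h b))
    have ha' : (tw (h ^ N) Q).coeff a ≠ 0 := by
      rw [coeff_tw_pow]; exact mul_ne_zero ha (pow_ne_zero _ (char_ne_zero h a))
    obtain ⟨P₁, hP₁, hP₁b, hP₁s⟩ := exists_normal (k := k) hk _ b hb' hbm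
    obtain ⟨Q₁, hQ₁, hQ₁a, hQ₁s⟩ := exists_normal (k := k) hk _ a ha' ham
    set p := (tw (h ^ N) P).coeff b with hp
    set q := (tw (h ^ N) Q).coeff a with hq
    have hPs : ∀ m, (mapRingHom Γ (algebraMap R k) P₁).coeff m ≠ 0 → v (h m) = v (h b) := by
      intro m hm
      by_contra hne
      have h1 := hP₁s m hm
      have h2 : (tw (h ^ N) P).coeff m ≠ 0 := by
        rw [← (ValuationRing.valuation R K).ne_zero_iff, h1, (ValuationRing.valuation R K).ne_zero_iff]
        exact hb'
      rw [coeff_tw_pow] at h2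
      rw [hp, coeff_tw_pow, coeff_tw_pow] at h1
      exact hN (Or.inl (Or.inl ⟨m, b, left_ne_zero_of_mul h2, hb, hne, h1⟩))
    have hQs : ∀ m, (mapRingHom Γ (algebraMap R k) Q₁).coeff m ≠ 0 → v (h m) = v (h a) := by
      intro m hm
      by_contra hne
      have h1 := hQ₁s m hm
      have h2 : (tw (h ^ N) Q).coeff m ≠ 0 := by
        rw [← (ValuationRing.valuation R K).ne_zero_iff, h1, (ValuationRing.valuation R K).ne_zero_iff]
        exact ha'
      rw [coeff_tw_pow] at h2
      rw [hq, coeff_tw_pow, coeff_tw_pow] at h1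
      exact hN (Or.inl (Or.inr ⟨m, a, left_ne_zero_of_mul h2, ha, hne, h1⟩))
    have hP₁0 : mapRingHom Γ (algebraMap R k) P₁ ≠ 0 := by
      intro h0
      rw [h0] at hP₁b
      exact zero_ne_one hP₁b
    have hQ₁0 : mapRingHom Γ (algebraMap R k) Q₁ ≠ 0 := by
      intro h0
      rw [h0] at hQ₁a
      exact zero_ne_one hQ₁a
    have hQshift : single a⁻¹ (1 : k) * mapRingHom Γ (algebraMap R k) Q₁ ≠ 0 := by
      refine mul_ne_zero ?_ hQ₁0
      intro h0
      have := congr(($h0).coeff a⁻¹)
      simp at this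
    -- the relation
    have e' : p • (mapRingHom Γ (algebraMap R K) P₁ * mapRingHom Γ (algebraMap R K) V) =
        q • (mapRingHom Γ (algebraMap R K) U * mapRingHom Γ (algebraMap R K) Q₁) := by
      rw [hP₁, hQ₁, smul_mul_assoc, mul_smul_comm, smul_smul, smul_smul, mul_inv_cancel₀ hb',
        mul_inv_cancel₀ ha', one_smul, one_smul]
      exact e
    have hq0 : v q ≠ 0 := (ValuationRing.valuation R K).ne_zero_iff.mpr ha'
    have hp0 : v p ≠ 0 := (ValuationRing.valuation R K).ne_zero_iff.mpr hb'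
    rcases lt_trichotomy (v p) (v q) with hlt | heq | hgt
    · -- the reduction is zero
      obtain ⟨d, hd, hd'⟩ := exists_mem_of_lt_one (R := R) (x := p / q) (by
        rw [map_div₀]
        exact (div_lt_one₀ (zero_lt_iff.mpr hq0)).mpr hlt)
      have h1 : d • (P₁ * V) = U * Q₁ := by
        apply hinj
        rw [map_smul', map_mul, map_mul, hd', div_eq_inv_mul, ← smul_smul, e', smul_smul, inv_mul_cancel₀ ha',
          one_smul]
      have h2 := congrArg (mapRingHom Γ (algebraMap R k)) h1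
      have h3 : algebraMap R k d = 0 := by
        rw [← hk] at hd
        exact hd
      rw [map_smul', h3, zero_smul, map_mul] at h2
      have h4 := (mul_eq_zero.mp h2.symm).resolve_right hQ₁0
      exact ⟨0, 1, one_ne_zero, by simp, one_supp, by rw [h4, zero_mul, zero_mul]⟩
    · obtain ⟨d, hd'⟩ := exists_unit_of_eq_one (R := R) (x := p / q) (by
        rw [map_div₀, heq, div_self hq0])
      have h1 : (d : R) • (P₁ * V) = U * Q₁ := by
        apply hinj
        rw [map_smul', map_mul, map_mul, hd', div_eq_inv_mul, ← smul_smul, e', smul_smul, inv_mul_cancel₀ ha',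
          one_smul]
      have h2 := congrArg (mapRingHom Γ (algebraMap R k)) h1
      rw [map_smul', map_mul, map_mul] at h2
      have hba : v (h b) = v (h a) := by
        by_contra hne
        rw [hp, hq, coeff_tw_pow, coeff_tw_pow] at heq
        exact hN (Or.inr ⟨b, a, hb, ha, hne, heq⟩)
      refine ⟨algebraMap R k d • (single a⁻¹ (1 : k) * mapRingHom Γ (algebraMap R k) P₁),
        single a⁻¹ (1 : k) * mapRingHom Γ (algebraMap R k) Q₁, hQshift, fun m hm => ?_, fun m hm => ?_, ?_⟩
      · refine shift_supp (h := h) _ b a hba hPs m fun h0 => hm ?_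
        rw [coeff_smul, Finsupp.smul_apply, h0, smul_zero]
      · exact shift_supp (h := h) _ a a rfl hQs m hm
      · rw [mul_left_comm, ← h2, smul_mul_assoc, mul_smul_comm, mul_assoc]
    · exfalso
      obtain ⟨d, hd, hd'⟩ := exists_mem_of_lt_one (R := R) (x := q / p) (by
        rw [map_div₀]
        exact (div_lt_one₀ (zero_lt_iff.mpr hp0)).mpr hgt)
      have h1 : P₁ * V = d • (U * Q₁) := by
        apply hinj
        rw [map_smul', map_mul, map_mul, hd', div_eq_inv_mul, ← smul_smul, ← e', smul_smul, inv_mul_cancel₀ hb',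
          one_smul]
      have h2 := congrArg (mapRingHom Γ (algebraMap R k)) h1
      have h3 : algebraMap R k d = 0 := by
        rw [← hk] at hd
        exact hd
      rw [map_smul', h3, zero_smul, map_mul] at h2
      exact mul_ne_zero hP₁0 hV h2

section field

variable (R) in
/-- The characters `m` such that `h m` is a unit. -/
noncomputable def unitGrp (h : Γ →* K) : Subgroup Γ where
  carrier := {m | v (h m) = 1}
  one_mem' := by
    change v (h 1) = 1
    rw [map_one, map_one]
  mul_mem' := fun {a b} ha hb => by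
    change v (h (a * b)) = 1
    rw [map_mul, map_mul, show v (h a) = 1 from ha, show v (h b) = 1 from hb, one_mul]
  inv_mem' := fun {a} ha => by
    change v (h a⁻¹) = 1
    have h1 : h a⁻¹ = (h a)⁻¹ := by
      refine eq_inv_of_mul_eq_one_left ?_
      rw [← map_mul, inv_mul_cancel, map_one]
    rw [h1, map_inv₀, show v (h a) = 1 from ha, inv_one]

variable {κ : Type*} [Field κ] [Algebra (MonoidAlgebra k Γ) κ]

variable (R k κ) in
/-- The image of `k[Γ']`. -/
noncomputable def subr (h : Γ →* K) : Subring κ :=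
  (MonoidAlgebra.mapDomainRingHom k (unitGrp R h).subtype).range.map (algebraMap (MonoidAlgebra k Γ) κ)

omit [Algebra R k] in
lemma mem_subr (P : MonoidAlgebra k Γ) (hP : ∀ m, P.coeff m ≠ 0 → v (h m) = 1) :
    algebraMap (MonoidAlgebra k Γ) κ P ∈ subr R k κ h := by
  refine ⟨P, ⟨MonoidAlgebra.comapDomain (unitGrp R h).subtype Subtype.val_injective P, ?_⟩, rfl⟩
  refine MonoidAlgebra.mapDomain_comapDomain ?_ _
  intro m hm
  exact ⟨⟨m, hP m (Finsupp.mem_support_iff.mp hm)⟩, rfl⟩

omit [Algebra R k] in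
lemma val_eq_one_of_mem [IsDomain (MonoidAlgebra k Γ)] [IsFractionRing (MonoidAlgebra k Γ) κ] (m : Γ)
    (hm : algebraMap (MonoidAlgebra k Γ) κ (single m 1) ∈ Subfield.closure (subr R k κ h : Set κ)) :
    v (h m) = 1 := by
  have hinj := IsFractionRing.injective (MonoidAlgebra k Γ) κ
  obtain ⟨y, hy, z, hz, hyz⟩ := Subfield.mem_closure_iff.mp hm
  rw [Subring.closure_eq] at hy hz
  obtain ⟨_, ⟨P, rfl⟩, rfl⟩ := hy
  obtain ⟨_, ⟨Q, rfl⟩, rfl⟩ := hz
  have h0 : algebraMap (MonoidAlgebra k Γ) κ (single m 1) ≠ 0 := by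
    intro h1
    have h2 := hinj (h1.trans (map_zero _).symm)
    have := congr(($h2).coeff m)
    simp at this
  have hz0 : algebraMap (MonoidAlgebra k Γ) κ (mapDomainRingHom k (unitGrp R h).subtype Q) ≠ 0 := by
    intro h1
    rw [h1, div_zero] at hyz
    exact h0 hyz.symm
  rw [div_eq_iff hz0, ← map_mul] at hyz
  have h1 := hinj hyz
  have hQ : Q ≠ 0 := by
    rintro rfl
    rw [map_zero, map_zero] at hz0
    exact hz0 rfl
  obtain ⟨q, hq⟩ : ∃ q, Q.coeff q ≠ 0 := by
    by_contra hc
    push Not at hc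
    exact hQ (MonoidAlgebra.ext (Finsupp.ext hc))
  have h2 := congr(($h1).coeff (m * q))
  rw [MonoidAlgebra.coeff_single_mul_apply, inv_mul_cancel_left, one_mul] at h2
  have h3 : (mapDomainRingHom k (unitGrp R h).subtype Q).coeff (q : Γ) = Q.coeff q := by
    change (Finsupp.mapDomain (unitGrp R h).subtype Q.coeff) ((unitGrp R h).subtype q) = _
    exact Finsupp.mapDomain_apply Subtype.val_injective _ _
  rw [h3] at h2
  have h4 : m * q ∈ unitGrp R h := by
    by_contra hc
    apply hq
    rw [← h2]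
    change (Finsupp.mapDomain (unitGrp R h).subtype P.coeff) (m * q) = 0
    exact Finsupp.mapDomain_of_notMem_range _ _ (by
      rintro ⟨x, hx⟩
      exact hc (hx ▸ x.2))
  have h5 : m ∈ unitGrp R h := by
    have := (unitGrp R h).mul_mem h4 ((unitGrp R h).inv_mem q.2)
    rwa [mul_inv_cancel_right] at this
  exact h5

end field

section main

universe u

/-- **The algebraic form of the theorem.** -/
theorem val_eq_one {k : Type*} [Field k] [Algebra R k]
    {Γ : Type*} [CommGroup Γ] (h : Γ →* K) {κ : Type u} [Field κ] [Algebra (MonoidAlgebra k Γ) κ]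
    [Algebra R κ] [IsScalarTower R (MonoidAlgebra k Γ) κ]
    [IsDomain (MonoidAlgebra k Γ)] [IsDomain (MonoidAlgebra K Γ)] [IsFractionRing (MonoidAlgebra k Γ) κ]
    (hk : RingHom.ker (algebraMap R k) = IsLocalRing.maximalIdeal R)
    {L : Type*} [Field L] [Algebra (MonoidAlgebra K Γ) L] [IsFractionRing (MonoidAlgebra K Γ) L]
    {E : Type*} [CommRing E] [Algebra R E] (τ : MonoidAlgebra R Γ →+* E) (ι : E →+* L) (ρ : E →ₐ[R] κ)
    (hι : ∀ P, ι (τ P) = algebraMap _ L (mapRingHom Γ (algebraMap R K) P))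
    (hρ : ∀ P, ρ (τ P) = algebraMap _ κ (mapRingHom Γ (algebraMap R k) P))
    (hE : ∀ e : E, ∃ U V : MonoidAlgebra R Γ, mapRingHom Γ (algebraMap R k) V ≠ 0 ∧ e * τ V = τ U)
    {A : Type u} [CommRing A] [Algebra R A] [Algebra.FiniteType R A] (ψ : A →+* L)
    (σ : ℕ → L →+* L) (hσ : ∀ N P, σ N (algebraMap _ L P) = algebraMap _ L (tw (h ^ N) P))
    (𝒩 : Set ℕ) (h𝒩 : 𝒩.Infinite) (hg : ∀ N ∈ 𝒩, ∃ g : A →ₐ[R] E, (∀ a, ι (g a) = σ N (ψ a)) ∧
      ∀ (Ω : Type u) [CommRing Ω] (f₁ f₂ : κ →+* Ω),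
        f₁.comp (ρ.comp g).toRingHom = f₂.comp (ρ.comp g).toRingHom → f₁ = f₂) (m : Γ) :
    v (h m) = 1 := by
  classical
  obtain ⟨s, hs⟩ := Algebra.FiniteType.out (R := R) (A := A)
  have h1 : ∀ a : A, ∃ P Q : MonoidAlgebra K Γ, Q ≠ 0 ∧ ψ a = algebraMap _ L P / algebraMap _ L Q := by
    intro a
    obtain ⟨P, Q, hQ, e⟩ := IsFractionRing.div_surjective (MonoidAlgebra K Γ) (ψ a)
    exact ⟨P, Q, nonZeroDivisors.ne_zero hQ, e.symm⟩
  choose P Q hQ hPQ using h1
  choose B hB hB' using fun a : A => key (k := k) h hk (P a) (Q a) (hQ a)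
  obtain ⟨N, hN, hNB⟩ : ∃ N ∈ 𝒩, N ∉ ⋃ a ∈ s, B a := by
    by_contra hc
    push Not at hc
    exact h𝒩 ((Set.Finite.biUnion s.finite_toSet fun a _ => hB a).subset hc)
  obtain ⟨g, hg, hepi⟩ := hg N hN
  have hιinj := IsFractionRing.injective (MonoidAlgebra K Γ) L
  have hκinj := IsFractionRing.injective (MonoidAlgebra k Γ) κ
  let F := Subfield.closure (subr R k κ h : Set κ)
  have hsF : ∀ x ∈ subr R k κ h, x ∈ F := fun x hx => Subfield.subset_closure hx
  have hgen : ∀ a ∈ s, ρ (g a) ∈ F := by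
    intro a ha
    obtain ⟨U, V, hV, hUV⟩ := hE (g a)
    have h2 : algebraMap _ L (tw (h ^ N) (P a) * mapRingHom Γ (algebraMap R K) V) =
        algebraMap _ L (mapRingHom Γ (algebraMap R K) U * tw (h ^ N) (Q a)) := by
      have h3 := congrArg ι hUV
      rw [map_mul, hι, hι, hg, hPQ, map_div₀, hσ, hσ] at h3
      have h4 : algebraMap _ L (tw (h ^ N) (Q a)) ≠ 0 := by
        intro h5
        exact hQ a (tw_injective _ ((hιinj (h5.trans (map_zero _).symm)).trans (map_zero _).symm))
      rw [map_mul, map_mul, ← h3]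
      field_simp
    obtain ⟨P', Q', hQ', hP's, hQ's, e⟩ := hB' a N (fun h5 => hNB (Set.mem_biUnion ha h5)) U V hV (hιinj h2)
    have hV0 : algebraMap _ κ (mapRingHom Γ (algebraMap R k) V) ≠ 0 := fun h5 =>
      hV (hκinj (h5.trans (map_zero _).symm))
    have hQ0 : algebraMap _ κ Q' ≠ 0 := fun h5 => hQ' (hκinj (h5.trans (map_zero _).symm))
    have h3 := congrArg ρ hUV
    rw [map_mul, hρ, hρ] at h3
    have h4 : ρ (g a) = algebraMap _ κ P' / algebraMap _ κ Q' := by
      rw [eq_div_iff hQ0, ← mul_left_inj' hV0, mul_right_comm, h3, ← map_mul, ← map_mul, e]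
    rw [h4]
    exact F.div_mem (hsF _ (mem_subr h P' hP's)) (hsF _ (mem_subr h Q' hQ's))
  have hall : ∀ a : A, (ρ.comp g).toRingHom a ∈ F := by
    intro a
    have ha : a ∈ Algebra.adjoin R (s : Set A) := by rw [hs]; trivial
    induction ha using Algebra.adjoin_induction with
    | mem x hx => exact hgen x hx
    | algebraMap r =>
      have : (ρ.comp g).toRingHom (algebraMap R A r) =
          algebraMap (MonoidAlgebra k Γ) κ (single 1 (algebraMap R k r)) := by
        change (ρ.comp g) (algebraMap R A r) = _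
        rw [AlgHom.commutes, IsScalarTower.algebraMap_apply R (MonoidAlgebra k Γ) κ]
        rfl
      rw [this]
      refine hsF _ (mem_subr h _ fun m hm => ?_)
      have : m = 1 := by
        by_contra hne
        apply hm
        rw [coeff_single, Finsupp.single_apply, if_neg (Ne.symm hne)]
      rw [this, map_one, map_one]
    | add x y _ _ hx hy => rw [map_add]; exact F.add_mem hx hy
    | mul x y _ _ hx hy => rw [map_mul]; exact F.mul_mem hx hy
  have h5 := mem_of_epi F _ hall hepi (algebraMap (MonoidAlgebra k Γ) κ (single m 1))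
  exact val_eq_one_of_mem h m h5

end main

end Groth.Agent.Sga3.H798.TorusAlg
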