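import Groth.Agent.Sga3.H798.PtChart
import Groth.Agent.Sga3.H798.TorusAlg
import Groth.Agent.Sga3B.DSRigid
import Mathlib.RingTheory.Localization.AtPrime.Basic
import Mathlib.RingTheory.Localization.FractionRing
import Mathlib.AlgebraicGeometry.Morphisms.FiniteType

/-!
# Points of tori over valuation rings

`R` a valuation ring with fraction field `K`, `i : D(M) ⟶ G` a homomorphism and a monomorphism over `Spec R`, `G` of
finite type.  If the `K`-point of `D(M)` given by a character `x` of `M` becomes an `R`-point in `G`, then `x m` is a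
unit of `R` for all `m`.
-/

set_option autoImplicit false
universe u
open CategoryTheory MonoidalCategory CartesianMonoidalCategory MonObj GrpObj AlgebraicGeometry Limits

namespace Groth.Agent.Sga3.H798.TorusVal
open Groth.Agent.Sga3B.DSPts Groth.Agent.Sga3B.InfConj Groth.Agent.Sga3B.InfConjFam PtChart TorusAlg
open Groth.Agent.Sga3B.DSRigid

section pt

variable {R : Type u} [CommRing R] {G : Over (Spec (CommRingCat.of R))} [GrpObj G]
  {M : Type} [AddCommGroup M]

lemma charPt_one {E : Type u} [CommRing E] [Algebra R E] :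
    charPt (C := R) (1 : Multiplicative M →* E) = 1 := by
  have h : (gPt R E).toMonoidHom.comp (1 : Multiplicative M →* E) = 1 := MonoidHom.comp_one _
  rw [charPt, h]
  exact map_one (dsEquiv (pt R E) M)

lemma charPt_pow {E : Type u} [CommRing E] [Algebra R E] (χ : Multiplicative M →* E) (n : ℕ) :
    charPt (C := R) (χ ^ n) = charPt χ ^ n := by
  induction n with
  | zero => rw [pow_zero, pow_zero, charPt_one]
  | succ n ih => rw [pow_succ, pow_succ, charPt_mul, ih]

/-- postcomposition with a homomorphism and powers -/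
lemma pow_comp {X T : Over (Spec (CommRingCat.of R))} [GrpObj T] (i : T ⟶ G) [IsMonHom i] (t : X ⟶ T) (n : ℕ) :
    (t ^ n) ≫ i = (t ≫ i) ^ n := by
  induction n with
  | zero => rw [pow_zero, pow_zero]; exact MonObj.one_comp i
  | succ n ih => rw [pow_succ, pow_succ, MonObj.mul_comp, ih]

lemma comp_pow {X Y : Over (Spec (CommRingCat.of R))} (f : X ⟶ Y) (g : Y ⟶ G) (n : ℕ) :
    f ≫ (g ^ n) = (f ≫ g) ^ n := by
  induction n with
  | zero => rw [pow_zero, pow_zero]; exact MonObj.comp_one f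
  | succ n ih => rw [pow_succ, pow_succ, MonObj.comp_mul, ih]

lemma ptMap_ofId_comp {E E' : Type u} [CommRing E] [CommRing E'] [Algebra R E] [Algebra R E'] (q : E →ₐ[R] E') :
    ptMap q ≫ ptMap (Algebra.ofId R E) = ptMap (Algebra.ofId R E') := by
  rw [ptMap_comp]
  congr 1
  exact Subsingleton.elim _ _

/-- The translate of the tautological point by a power of an `R`-point of `G`. -/
noncomputable def z (i : Red.DS (Spec (.of R)) M ⟶ G) (y : pt R R ⟶ G) (N : ℕ) :
    pt R (MonoidAlgebra R (Multiplicative M)) ⟶ G :=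
  (ptMap (Algebra.ofId R _) ≫ y) ^ N * (univPt R M ≫ i)

lemma ptMap_z (i : Red.DS (Spec (.of R)) M ⟶ G) (y : pt R R ⟶ G) (N : ℕ) {F : Type u} [CommRing F] [Algebra R F]
    (φ : MonoidAlgebra R (Multiplicative M) →ₐ[R] F) :
    ptMap φ ≫ z i y N = (ptMap (Algebra.ofId R F) ≫ y) ^ N *
      (charPt ((φ : MonoidAlgebra R (Multiplicative M) →* F).comp (MonoidAlgebra.of R (Multiplicative M))) ≫ i) := by
  rw [z, MonObj.comp_mul, comp_pow, ← Category.assoc, ptMap_ofId_comp, ← Category.assoc, univPt, ptMap_charPt]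

/-- Points with the same translate of the tautological point. -/
lemma eq_of_ptMap_z (i : Red.DS (Spec (.of R)) M ⟶ G) [Mono i] (y : pt R R ⟶ G) (N : ℕ) {F : Type u} [CommRing F]
    [Algebra R F] (φ φ' : MonoidAlgebra R (Multiplicative M) →ₐ[R] F) (h : ptMap φ ≫ z i y N = ptMap φ' ≫ z i y N) :
    φ = φ' := by
  rw [ptMap_z, ptMap_z, mul_right_inj, cancel_mono] at h
  have h1 := charPt_injective h
  exact MonoidAlgebra.algHom_ext' h1 (Subsingleton.elim _ _)

end pt

section setup

variable (R K : Type u) [CommRing R] [IsDomain R] [ValuationRing R] [Field K] [Algebra R K] [IsFractionRing R K]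
  (Γ : Type) [CommGroup Γ] [UniqueProds Γ]

/-- the residue field -/
abbrev k := IsLocalRing.ResidueField R

/-- the function field of the special fibre of the torus -/
abbrev κ := FractionRing (MonoidAlgebra (k R) Γ)

/-- the function field of the generic fibre of the torus -/
abbrev L := FractionRing (MonoidAlgebra K Γ)

lemma ker_k : RingHom.ker (algebraMap R (k R)) = IsLocalRing.maximalIdeal R := IsLocalRing.ker_residue

/-- reduction -/
noncomputable abbrev red : MonoidAlgebra R Γ →ₐ[R] MonoidAlgebra (k R) Γ :=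
  MonoidAlgebra.mapAlgHom Γ (Algebra.ofId R (k R))

/-- extension to the generic fibre -/
noncomputable abbrev gen : MonoidAlgebra R Γ →ₐ[R] MonoidAlgebra K Γ :=
  MonoidAlgebra.mapAlgHom Γ (Algebra.ofId R K)

/-- the prime ideal of the generic point of the special fibre of the torus -/
noncomputable abbrev p : Ideal (MonoidAlgebra R Γ) := RingHom.ker (red R Γ).toRingHom

instance isPrime_p : (p R Γ).IsPrime := RingHom.ker_isPrime _

/-- the local ring at the generic point of the special fibre of the torus -/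
abbrev E := Localization.AtPrime (p R Γ)

omit [IsDomain R] [ValuationRing R] [UniqueProds Γ] in
lemma gen_injective : Function.Injective (gen R K Γ) :=
  MonoidAlgebra.map_injective _ (IsFractionRing.injective R K)

/-- restriction of functions to the generic point of the torus -/
noncomputable abbrev toL : MonoidAlgebra R Γ →ₐ[R] L K Γ :=
  (IsScalarTower.toAlgHom R (MonoidAlgebra K Γ) (L K Γ)).comp (gen R K Γ)

noncomputable abbrev toκ : MonoidAlgebra R Γ →ₐ[R] κ R Γ :=
  (IsScalarTower.toAlgHom R (MonoidAlgebra (k R) Γ) (κ R Γ)).comp (red R Γ)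

noncomputable abbrev toE : MonoidAlgebra R Γ →ₐ[R] E R Γ :=
  IsScalarTower.toAlgHom R (MonoidAlgebra R Γ) (E R Γ)

lemma isUnit_toL (y : (p R Γ).primeCompl) : IsUnit (toL R K Γ (y : MonoidAlgebra R Γ)) := by
  rw [isUnit_iff_ne_zero]
  intro h
  have h1 : gen R K Γ y = 0 := IsFractionRing.injective (MonoidAlgebra K Γ) (L K Γ) (h.trans (map_zero _).symm)
  have h2 : (y : MonoidAlgebra R Γ) = 0 := gen_injective R K Γ (h1.trans (map_zero _).symm)
  exact y.2 (h2 ▸ Ideal.zero_mem _)

lemma isUnit_toκ (y : (p R Γ).primeCompl) : IsUnit (toκ R Γ (y : MonoidAlgebra R Γ)) := by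
  rw [isUnit_iff_ne_zero]
  intro h
  have h1 : red R Γ y = 0 :=
    IsFractionRing.injective (MonoidAlgebra (k R) Γ) (κ R Γ) (h.trans (map_zero _).symm)
  exact y.2 h1

noncomputable def eL : E R Γ →ₐ[R] L K Γ := IsLocalization.liftAlgHom (M := (p R Γ).primeCompl) (isUnit_toL R K Γ)

noncomputable def eκ : E R Γ →ₐ[R] κ R Γ := IsLocalization.liftAlgHom (M := (p R Γ).primeCompl) (isUnit_toκ R Γ)

lemma eL_toE (P : MonoidAlgebra R Γ) : eL R K Γ (toE R Γ P) = toL R K Γ P := by
  rw [eL, IsLocalization.liftAlgHom_apply]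
  exact IsLocalization.lift_eq _ _

lemma eκ_toE (P : MonoidAlgebra R Γ) : eκ R Γ (toE R Γ P) = toκ R Γ P := by
  rw [eκ, IsLocalization.liftAlgHom_apply]
  exact IsLocalization.lift_eq _ _

lemma eL_comp : (eL R K Γ).comp (toE R Γ) = toL R K Γ := AlgHom.ext (eL_toE R K Γ)

lemma eκ_comp : (eκ R Γ).comp (toE R Γ) = toκ R Γ := AlgHom.ext (eκ_toE R Γ)

lemma exists_div (e : E R Γ) : ∃ U V : MonoidAlgebra R Γ, red R Γ V ≠ 0 ∧ e * toE R Γ V = toE R Γ U := by
  obtain ⟨⟨U, V⟩, h⟩ := IsLocalization.surj (p R Γ).primeCompl e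
  exact ⟨U, V, V.2, h⟩

lemma ker_eκ : RingHom.ker (eκ R Γ) = IsLocalRing.maximalIdeal (E R Γ) := by
  refine le_antisymm (IsLocalRing.le_maximalIdeal (RingHom.ker_ne_top _)) fun e he => ?_
  obtain ⟨U, V, hV, h⟩ := exists_div R Γ e
  have h1 : toE R Γ U ∈ IsLocalRing.maximalIdeal (E R Γ) := by
    rw [← h]
    exact Ideal.mul_mem_right _ _ he
  have h2 : U ∈ p R Γ := (IsLocalization.AtPrime.to_map_mem_maximal_iff (E R Γ) (p R Γ) U).mp h1
  have h3 := congrArg (eκ R Γ) h
  rw [map_mul, eκ_toE, eκ_toE] at h3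
  have h4 : toκ R Γ U = 0 := by
    change algebraMap _ _ (red R Γ U) = 0
    rw [show red R Γ U = 0 from h2, map_zero]
  rw [h4] at h3
  exact (mul_eq_zero.mp h3).resolve_right (isUnit_toκ R Γ ⟨V, hV⟩).ne_zero

variable {Γ}

/-- translation by a character on the function field -/
noncomputable def σ (x : Γ →* K) (N : ℕ) : L K Γ →ₐ[R] L K Γ :=
  IsFractionRing.liftAlgHom (g := ((IsScalarTower.toAlgHom K (MonoidAlgebra K Γ) (L K Γ)).comp
    (tw (x ^ N))).restrictScalars R) ((IsFractionRing.injective (MonoidAlgebra K Γ) (L K Γ)).comp (tw_injective _))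

omit [IsDomain R] [ValuationRing R] [IsFractionRing R K] in
lemma σ_algebraMap (x : Γ →* K) (N : ℕ) (P : MonoidAlgebra K Γ) :
    σ R K x N (algebraMap _ _ P) = algebraMap _ (L K Γ) (tw (x ^ N) P) := by
  rw [σ, IsFractionRing.liftAlgHom_apply]
  exact IsFractionRing.lift_algebraMap _ _

end setup

section charts

variable {R : Type u} [CommRing R]

lemma exists_chart_of_affine (G : Over (Spec (CommRingCat.of R))) [LocallyOfFiniteType G.hom] {W : Scheme.{u}}
    [IsAffine W] (f : W ⟶ G.left) [IsOpenImmersion f] :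
    ∃ (A : Type u) (_ : CommRing A) (_ : Algebra R A) (j : pt R A ⟶ G), IsOpenImmersion j.left ∧
      Algebra.FiniteType R A ∧ Set.range f = Set.range j.left := by
  let D : CommRingCat.{u} := Γ(W, ⊤)
  let j₀ : Spec D ⟶ G.left := W.isoSpec.inv ≫ f
  let κ : CommRingCat.of R ⟶ D := Spec.preimage (j₀ ≫ G.hom)
  have hκ : Spec.map κ = j₀ ≫ G.hom := Spec.map_preimage _
  let _ : Algebra R D := κ.hom.toAlgebra
  let j : pt R D ⟶ G := Over.homMk j₀ hκ.symm
  have hj' : IsOpenImmersion j.left := inferInstanceAs (IsOpenImmersion (W.isoSpec.inv ≫ f))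
  refine ⟨D, inferInstance, inferInstance, j, hj', ?_, ?_⟩
  · have h1 : LocallyOfFiniteType (Spec.map κ) := by
      rw [hκ]
      infer_instance
    exact (HasRingHomProperty.Spec_iff (P := @LocallyOfFiniteType)).mp h1
  · change _ = Set.range (W.isoSpec.inv ≫ f)
    rw [Scheme.Hom.comp_base, TopCat.coe_comp, Set.range_comp]
    have : Set.range W.isoSpec.inv = Set.univ := Set.range_eq_univ.mpr W.isoSpec.inv.surjective
    rw [this, Set.image_univ]

lemma exists_charts (G : Over (Spec (CommRingCat.of R))) [LocallyOfFiniteType G.hom] [QuasiCompact G.hom] :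
    ∃ (n : Type u) (_ : Finite n), ∃ c : G.left → n, ∀ a : n,
      ∃ (A : Type u) (_ : CommRing A) (_ : Algebra R A) (j : pt R A ⟶ G), IsOpenImmersion j.left ∧
      Algebra.FiniteType R A ∧ ∀ g, c g = a → g ∈ Set.range j.left := by
  have : CompactSpace G.left := QuasiCompact.compactSpace_of_compactSpace G.hom
  let 𝒰 := G.left.affineCover.finiteSubcover
  have hfin : Finite 𝒰.I₀ := inferInstance
  refine ⟨𝒰.I₀, hfin, fun g => 𝒰.idx g, fun a => ?_⟩
  have : IsAffine (𝒰.X a) := inferInstance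
  obtain ⟨A, _, _, j, h1, h2, h3⟩ := exists_chart_of_affine G (𝒰.f a)
  refine ⟨A, inferInstance, inferInstance, j, h1, h2, fun g hg => ?_⟩
  rw [← h3, ← hg]
  exact 𝒰.covers g

end charts

section main

variable {R : Type u} [CommRing R] [IsDomain R] [ValuationRing R] {K : Type u} [Field K] [Algebra R K]
  [IsFractionRing R K] {G : Over (Spec (CommRingCat.of R))} [GrpObj G] {M : Type} [AddCommGroup M]
  [UniqueProds (Multiplicative M)] (i : Red.DS (Spec (.of R)) M ⟶ G) [IsMonHom i]
  (x : Multiplicative M →* K) (y : pt R R ⟶ G) (hy : ptMap (Algebra.ofId R K) ≫ y = charPt x ≫ i)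

variable (R K M) in
/-- the tautological point over the function field of the torus -/
noncomputable abbrev ofL : Multiplicative M →* L K (Multiplicative M) :=
  (toL R K (Multiplicative M) : MonoidAlgebra R (Multiplicative M) →* L K (Multiplicative M)).comp
    (MonoidAlgebra.of R (Multiplicative M))

omit [IsDomain R] [ValuationRing R] [IsFractionRing R K] in
include hy in
lemma ptMap_toL_z (N : ℕ) :
    ptMap (toL R K (Multiplicative M)) ≫ z i y N = ptMap (σ R K x N) ≫ charPt (ofL R K M) ≫ i := by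
  let θ : K →ₐ[R] L K (Multiplicative M) := IsScalarTower.toAlgHom R K _
  have h1 : ptMap (Algebra.ofId R (L K (Multiplicative M))) ≫ y = charPt ((θ : K →* _).comp x) ≫ i := by
    rw [← ptMap_charPt, Category.assoc, ← hy, ← Category.assoc, ptMap_ofId_comp]
  have e1 := MonObj.mul_comp (charPt (C := R) (((θ : K →* _).comp x) ^ N)) (charPt (C := R) (ofL R K M)) i
  rw [ptMap_z, h1, ← pow_comp i, ← charPt_pow, ← e1, ← charPt_mul, ← Category.assoc, ptMap_charPt]
  congr 2
  refine MonoidHom.ext fun m => ?_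
  have h2 : ofL R K M m = algebraMap (MonoidAlgebra K (Multiplicative M)) (L K (Multiplicative M))
      (MonoidAlgebra.single m 1) := by
    change algebraMap (MonoidAlgebra K (Multiplicative M)) _
      (MonoidAlgebra.mapAlgHom _ (Algebra.ofId R K) (MonoidAlgebra.single m 1)) = _
    rw [MonoidAlgebra.mapAlgHom_single, map_one]
  change θ (x m) ^ N * ofL R K M m = σ R K x N (ofL R K M m)
  rw [h2, σ_algebraMap, tw, MonoidAlgebra.lift_single]
  change _ = algebraMap (MonoidAlgebra K (Multiplicative M)) _ ((1 : K) • MonoidAlgebra.single m (x m ^ N))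
  rw [one_smul, ← map_pow]
  have h3 : θ (x m ^ N) = algebraMap (MonoidAlgebra K (Multiplicative M)) _ (MonoidAlgebra.single 1 (x m ^ N)) := rfl
  rw [h3, ← map_mul, MonoidAlgebra.single_mul_single, _root_.one_mul, _root_.mul_one]

include hy in
/-- **Points of tori over valuation rings.** -/
theorem val_eq_one [Mono i] [LocallyOfFiniteType G.hom] [QuasiCompact G.hom] (m : Multiplicative M) :
    ValuationRing.valuation R K (x m) = 1 := by
  let Γ := Multiplicative M
  obtain ⟨n, _, c, hc⟩ := exists_charts G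
  -- the generic point of the special fibre, translated
  let q₀ : (pt R (κ R Γ)).left := (⊥ : PrimeSpectrum (κ R Γ))
  have hq₀ : ∀ q : (pt R (κ R Γ)).left, q = q₀ := fun q =>
    (Subsingleton.elim (α := PrimeSpectrum (κ R Γ)) q ⊥)
  obtain ⟨a, ha⟩ := Finite.exists_infinite_fiber fun N : ℕ => c ((ptMap (toκ R Γ) ≫ z i y N).left q₀)
  let 𝒩 : Set ℕ := (fun N : ℕ => c ((ptMap (toκ R Γ) ≫ z i y N).left q₀)) ⁻¹' {a}
  have h𝒩 : 𝒩.Infinite := Set.infinite_coe_iff.mp ha
  obtain ⟨A, _, _, j, hj, hfA, hcov⟩ := hc a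
  have hjm : Mono j := Over.mono_of_mono_left j
  -- the charts at the local ring
  have h1 : ∀ N ∈ 𝒩, ∃ g : A →ₐ[R] E R Γ, ptMap (toE R Γ) ≫ z i y N = ptMap g ≫ j := by
    intro N hN
    have h2 : ptMap (eκ R Γ) ≫ ptMap (toE R Γ) ≫ z i y N = ptMap (toκ R Γ) ≫ z i y N := by
      rw [← Category.assoc, ptMap_comp, eκ_comp]
    obtain ⟨φ, hφ⟩ := exists_eq_ptMap_comp j (ptMap (eκ R Γ) ≫ ptMap (toE R Γ) ≫ z i y N) (by
      rintro _ ⟨q, rfl⟩
      rw [hq₀ q, h2]
      exact hcov _ hN)
    exact exists_eq_ptMap_comp j _ (range_subset_of_local j (eκ R Γ) (ker_eκ R Γ) _ φ hφ)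
  -- the chart at the generic point
  obtain ⟨ψ, hψ⟩ := exists_eq_ptMap_comp j (charPt (ofL R K M) ≫ i) (by
    obtain ⟨N, hN⟩ := h𝒩.nonempty
    obtain ⟨g, hg⟩ := h1 N hN
    have h2 : ptMap (σ R K x N) ≫ charPt (ofL R K M) ≫ i = ptMap ((eL R K Γ).comp g) ≫ j := by
      rw [← ptMap_toL_z i x y hy, ← eL_comp, ← ptMap_comp, Category.assoc, hg, ← Category.assoc, ptMap_comp]
    rintro _ ⟨q, rfl⟩
    refine ⟨(ptMap ((eL R K Γ).comp g)).left q, ?_⟩
    have h3 := congr(($h2).left q)
    simp only [Over.comp_left, Scheme.Hom.comp_apply] at h3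
    rw [← h3]
    have h4 : (ptMap (σ R K x N)).left q = q := Subsingleton.elim (α := PrimeSpectrum (L K Γ)) _ _
    rw [h4]
    simp only [Over.comp_left, Scheme.Hom.comp_apply])
  refine TorusAlg.val_eq_one (k := k R) (κ := κ R Γ) (L := L K Γ) (E := E R Γ) x (ker_k R)
    (toE R Γ).toRingHom (eL R K Γ).toRingHom (eκ R Γ) ?_ ?_ ?_ ψ.toRingHom (fun N => (σ R K x N).toRingHom)
    (fun N P => σ_algebraMap R K x N P) 𝒩 h𝒩 (fun N hN => ?_) m
  · intro P
    exact eL_toE R K Γ P
  · intro P
    exact eκ_toE R Γ P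
  · intro e
    exact exists_div R Γ e
  obtain ⟨g, hg⟩ := h1 N hN
  refine ⟨g, fun b => ?_, ?_⟩
  · have h2 : ptMap ((σ R K x N).comp ψ) ≫ j = ptMap ((eL R K Γ).comp g) ≫ j := by
      rw [← ptMap_comp, Category.assoc, ← hψ, ← ptMap_toL_z i x y hy, ← eL_comp, ← ptMap_comp, Category.assoc, hg,
        ← Category.assoc, ptMap_comp]
    rw [cancel_mono] at h2
    exact congr($(ptMap_injective h2) b).symm
  · intro Ω _ f₁ f₂ hf
    let _ : Algebra R Ω := (f₁.comp (algebraMap R (κ R Γ))).toAlgebra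
    have h2 : f₂.comp (algebraMap R (κ R Γ)) = algebraMap R Ω := by
      change _ = f₁.comp (algebraMap R (κ R Γ))
      rw [← ((eκ R Γ).comp g).comp_algebraMap, ← RingHom.comp_assoc, ← RingHom.comp_assoc]
      exact congrArg (fun f => RingHom.comp f (algebraMap R A)) hf.symm
    let F₁ : κ R Γ →ₐ[R] Ω := { f₁ with commutes' := fun r => rfl }
    let F₂ : κ R Γ →ₐ[R] Ω := { f₂ with commutes' := fun r => congr($h2 r) }
    have h3 : F₁.comp ((eκ R Γ).comp g) = F₂.comp ((eκ R Γ).comp g) := AlgHom.ext fun b => congr($hf b)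
    have h4 : ptMap (F₁.comp (toκ R Γ)) ≫ z i y N = ptMap (F₂.comp (toκ R Γ)) ≫ z i y N := by
      have h5 : ∀ F : κ R Γ →ₐ[R] Ω, ptMap (F.comp (toκ R Γ)) ≫ z i y N = ptMap (F.comp ((eκ R Γ).comp g)) ≫ j := by
        intro F
        rw [← eκ_comp, ← AlgHom.comp_assoc, ← ptMap_comp, Category.assoc, hg, ← Category.assoc, ptMap_comp,
          AlgHom.comp_assoc]
      rw [h5, h5, h3]
    have h5 := eq_of_ptMap_z i y N _ _ h4
    refine IsLocalization.ringHom_ext (nonZeroDivisors (MonoidAlgebra (k R) Γ)) (S := κ R Γ) ?_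
    refine RingHom.ext fun P => ?_
    obtain ⟨P, rfl⟩ : ∃ P', red R Γ P' = P := MonoidAlgebra.map_surjective _ IsLocalRing.residue_surjective P
    exact congr($h5 P)

end main

end Groth.Agent.Sga3.H798.TorusVal
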